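import Groth.Agent.Sga67.ExtClass
import Groth.Agent.Sga67.TensorOps
import Groth.Agent.Krr.H495.Rank
import Groth.Agent.Dual.H366.ExtQCoh
import Groth.Agent.Ega2.QCohLocal
import Groth.Agent.Ega2.TensLift

/-!
# The determinant of a short exact sequence (helper482)

`det_ses`: for `0 → E' → E → E'' → 0` exact, `E'`, `E''` finite locally free of ranks `a`, `b`:
`Λ^a E' ⊗ Λ^b E'' ≅ Λ^(a+b) E`.
-/

set_option autoImplicit false

universe u

open CategoryTheory CategoryTheory.Limits AlgebraicGeometry Opposite TopologicalSpace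
open scoped TensorProduct ZeroObject
open Groth.Agent
open Groth.Agent.Sga67.Sec Groth.Agent.Sga67.LocBasis Groth.Agent.Sga67.SesImage
open Groth.Agent.Sga67.ExtSheaf Groth.Agent.Sga67.ExtClass

namespace K482.DetSes

variable {X : Scheme.{u}}

theorem isZero_tensor_right {n m i j : ℕ} {E E' L L' : X.Modules} (hE : FlatMod.IsFinLocFreeOfRank n E)
    (hE' : FlatMod.IsFinLocFreeOfRank m E') (hL : ExtPow.IsExtPow i E L) (hL' : ExtPow.IsExtPow j E' L')
    (h : n < i ∨ m < j) : IsZero (CohB1.tensorMod L L') := by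
  have h1 := Krr.H495.Rank.rank_tensor (Krr.H495.Rank.rank_extPow hE hL) (Krr.H495.Rank.rank_extPow hE' hL')
  have h2 : n.choose i * m.choose j = 0 := by
    rcases h with h | h
    · rw [Nat.choose_eq_zero_of_lt h, zero_mul]
    · rw [Nat.choose_eq_zero_of_lt h, mul_zero]
  rw [h2] at h1
  exact Krr.H495.Rank.isZero_of_rank_zero h1

theorem isZero_image {C : Type*} [Category C] [Abelian C] {A B : C} (hA : IsZero A) (f : A ⟶ B) :
    IsZero (image f) := by
  have h : factorThruImage f = 0 := hA.eq_of_src _ _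
  have h2 : Epi (0 : A ⟶ image f) := by rw [← h]; infer_instance
  exact (IsZero.iff_id_eq_zero _).2 (by rw [← cancel_epi (0 : A ⟶ image f)]; simp)

/-- **The determinant of a short exact sequence.** -/
theorem det_ses {S : ShortComplex X.Modules} (hS : S.ShortExact) {a b : ℕ}
    (h₁ : FlatMod.IsFinLocFreeOfRank a S.X₁) (h₃ : FlatMod.IsFinLocFreeOfRank b S.X₃)
    {L₁ L₂ L₃ : X.Modules} (hL₁ : ExtPow.IsExtPow a S.X₁ L₁) (hL₂ : ExtPow.IsExtPow (a + b) S.X₂ L₂)
    (hL₃ : ExtPow.IsExtPow b S.X₃ L₃) : Nonempty (CohB1.tensorMod L₁ L₃ ≅ L₂) := by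
  have hf₁ := Krr.H495.Rank.isFinLocFree_of_rank h₁
  have hf₃ := Krr.H495.Rank.isFinLocFree_of_rank h₃
  have h₂ := Krr.H495.Rank.rank_shortExact hS h₁ h₃
  have hf₂ := Krr.H495.Rank.isFinLocFree_of_rank h₂
  have hex : ∀ {E : X.Modules}, FlatMod.IsFinLocFree E → ∀ i, ∃ L : X.Modules, ExtPow.IsExtPow i E L :=
    fun {E} hE i => Dual.H366.ExtQCoh.exists_isExtPow i (Ega2.QCohLocal.isQCoh_of_isFinLocFree hE)
  choose L' hL' using hex hf₁
  choose L hL using hex hf₂
  choose L'' hL'' using hex hf₃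
  obtain ⟨e₁⟩ := Sga67.TensorOps.nonempty_iso_of_isExtPow (Iso.refl _) hL₁ (hL' a)
  obtain ⟨e₂⟩ := Sga67.TensorOps.nonempty_iso_of_isExtPow (Iso.refl _) hL₂ (hL (a + b))
  obtain ⟨e₃⟩ := Sga67.TensorOps.nonempty_iso_of_isExtPow (Iso.refl _) hL₃ (hL'' b)
  choose φ' hφ' using fun i => exists_phi (hL' i)
  choose φ hφ using fun i => exists_phi (hL i)
  choose φ'' hφ'' using fun i => exists_phi (hL'' i)
  choose l hl using fun q => exists_extMap S.g (φ q) (hφ q) (φ'' q) (hφ'' q)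
  choose m hm using fun (p q n : ℕ) (h : p + q = n) =>
    exists_extMul h S.f (φ' p) (hφ' p) (φ q) (hφ q) (φ n) (hφ n)
  -- the image of `m 0 n n` is everything
  have hn : 0 + (a + b) = a + b := zero_add _
  have h0 : Nonempty (image (m 0 (a + b) (a + b) hn) ≅ L (a + b)) := by
    have hepi : Epi (m 0 (a + b) (a + b) hn) := by
      apply epi_of_locally_surjective
      intro U s x hx
      obtain ⟨_, ⟨W, rfl⟩, hxW, hW⟩ := Opens.isBasis_iff_nbhd.mp (affineBasis X) hx
      obtain ⟨t₁, ht₁⟩ := Sga67.ExtAlg.mu_zero_surjective (M' := Sec S.X₁ W.1) hn (appS S.f W.1)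
        (φ (a + b) W (res _ hW s))
      obtain ⟨t₂, rfl⟩ := (map_congr_injective (φ' 0) (φ (a + b)) W).2 t₁
      refine ⟨W.1, hW, hxW, tau _ _ W.1 t₂, ?_⟩
      apply (φ (a + b) W).injective
      rw [hm 0 (a + b) (a + b) hn W, ht₁]
    have : Epi (image.ι (m 0 (a + b) (a + b) hn)) := epi_of_epi_fac (image.fac (m 0 (a + b) (a + b) hn))
    have : IsIso (image.ι (m 0 (a + b) (a + b) hn)) := isIso_of_mono_of_epi _
    exact ⟨asIso (image.ι (m 0 (a + b) (a + b) hn))⟩
  have key : ∀ (i q : ℕ) (_ : i ≤ a) (h : i + q = a + b), Nonempty (image (m i q (a + b) h) ≅ L (a + b)) := by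
    intro i
    induction i with
    | zero =>
      intro q _ h
      have hq : q = a + b := by omega
      subst hq
      exact h0
    | succ p ih =>
      intro q hp h
      obtain ⟨e⟩ := ih (q + 1) (by omega) (by omega)
      have hpq : p + (q + 1) = a + b := by omega
      obtain ⟨j, k, w, hex'⟩ := ses_step hS hf₃ hpq h (φ' p) (φ' (p + 1)) (φ (q + 1)) (φ q)
        (φ'' (q + 1)) (φ (a + b)) (l (q + 1)) (hl (q + 1)) (m p (q + 1) (a + b) hpq)
        (hm p (q + 1) (a + b) hpq) (m (p + 1) q (a + b) h) (hm (p + 1) q (a + b) h)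
      have hz : IsZero (CohB1.tensorMod (L' p) (L'' (q + 1))) :=
        isZero_tensor_right h₁ h₃ (hL' p) (hL'' (q + 1)) (Or.inr (by omega))
      have := hex'.mono_f
      have hepi : Epi j := hex'.exact.epi_f (hz.eq_of_tgt _ _)
      have : Mono j := hex'.mono_f
      have : IsIso j := isIso_of_mono_of_epi j
      exact ⟨asIso j ≪≫ e⟩
  have key2 : Nonempty (CohB1.tensorMod (L' a) (L'' b) ≅ L (a + b)) := by
    rcases Nat.eq_zero_or_pos b with hb | hb
    · subst hb
      obtain ⟨e⟩ := key a 0 le_rfl rfl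
      obtain ⟨j, k, w, hex'⟩ := ses_base hS hf₃ (rfl : a + 0 = a + 0) (φ' a) (φ 0) (φ'' 0) (φ (a + 0)) (l 0) (hl 0)
        (m a 0 (a + 0) rfl) (hm a 0 (a + 0) rfl)
      have hz : IsZero (image (0 : (0 : X.Modules) ⟶ L (a + 0))) :=
        (isZero_zero _).of_iso (imageZero : _ ≅ (0 : X.Modules))
      have : Mono k := hex'.exact.mono_g (hz.eq_of_src _ _)
      have : Epi k := hex'.epi_g
      have : IsIso k := isIso_of_mono_of_epi k
      exact ⟨(asIso k).symm ≪≫ e⟩
    · obtain ⟨q, rfl⟩ : ∃ q, b = q + 1 := ⟨b - 1, by omega⟩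
      obtain ⟨e⟩ := key a (q + 1) le_rfl rfl
      have h' : a + 1 + q = a + (q + 1) := by omega
      obtain ⟨j, k, w, hex'⟩ := ses_step hS hf₃ rfl h' (φ' a) (φ' (a + 1)) (φ (q + 1)) (φ q)
        (φ'' (q + 1)) (φ (a + (q + 1))) (l (q + 1)) (hl (q + 1)) (m a (q + 1) (a + (q + 1)) rfl)
        (hm a (q + 1) (a + (q + 1)) rfl) (m (a + 1) q (a + (q + 1)) h') (hm (a + 1) q (a + (q + 1)) h')
      have hz : IsZero (image (m (a + 1) q (a + (q + 1)) h')) :=
        isZero_image (isZero_tensor_right h₁ h₂ (hL' (a + 1)) (hL q) (Or.inl (by omega))) _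
      have : Mono k := hex'.exact.mono_g (hz.eq_of_src _ _)
      have : Epi k := hex'.epi_g
      have : IsIso k := isIso_of_mono_of_epi k
      exact ⟨(asIso k).symm ≪≫ e⟩
  obtain ⟨e⟩ := key2
  exact ⟨Ega2.Tens.mapTIso e₁ e₃ ≪≫ e ≪≫ e₂.symm⟩

end K482.DetSes
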