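import Groth.Agent.Ega2.TensMon
import Groth.Agent.Sga67.TensorOps
import Groth.Agent.Grpsch.PicGrp

/-!
# Tensor calculus up to isomorphism (helper482)

`A ≃ B` notation-free lemmas: `cancel_right`, `swap_right`, ….
-/

set_option autoImplicit false

universe u

open CategoryTheory CategoryTheory.Limits AlgebraicGeometry Opposite TopologicalSpace
open Groth.Agent

namespace K482.TensCalc

variable {X : Scheme.{u}} {A A' B B' C D : X.Modules}

theorem congr (h : Nonempty (A ≅ A')) (h' : Nonempty (B ≅ B')) :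
    Nonempty (CohB1.tensorMod A B ≅ CohB1.tensorMod A' B') := by
  obtain ⟨e⟩ := h
  obtain ⟨e'⟩ := h'
  exact ⟨Ega2.Tens.mapTIso e e'⟩

theorem refl (A : X.Modules) : Nonempty (A ≅ A) := ⟨Iso.refl _⟩

theorem symm (h : Nonempty (A ≅ B)) : Nonempty (B ≅ A) := h.map Iso.symm

theorem trans (h : Nonempty (A ≅ B)) (h' : Nonempty (B ≅ C)) : Nonempty (A ≅ C) := by
  obtain ⟨e⟩ := h
  obtain ⟨e'⟩ := h'
  exact ⟨e ≪≫ e'⟩

theorem comm (A B : X.Modules) : Nonempty (CohB1.tensorMod A B ≅ CohB1.tensorMod B A) :=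
  ⟨Sga67.TensorOps.tensorComm A B⟩

theorem assoc (A B C : X.Modules) : Nonempty (CohB1.tensorMod (CohB1.tensorMod A B) C ≅
    CohB1.tensorMod A (CohB1.tensorMod B C)) := ⟨Ega2.Tens.assoc A B C⟩

/-- `(A ⊗ B) ⊗ C ≅ (A ⊗ C) ⊗ B`. -/
theorem right_comm (A B C : X.Modules) : Nonempty (CohB1.tensorMod (CohB1.tensorMod A B) C ≅
    CohB1.tensorMod (CohB1.tensorMod A C) B) :=
  trans (assoc A B C) (trans (congr (refl A) (comm B C)) (symm (assoc A C B)))

/-- Cancellation of an invertible factor. -/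
theorem cancel_right (hC : PicF.IsInvertible C)
    (h : Nonempty (CohB1.tensorMod A C ≅ CohB1.tensorMod B C)) : Nonempty (A ≅ B) := by
  obtain ⟨D, -, hD⟩ := Grpsch.PicGrp.exists_inverse hC
  have key : ∀ E : X.Modules, Nonempty (CohB1.tensorMod (CohB1.tensorMod E C) D ≅ E) := fun E =>
    trans (assoc E C D) (trans (congr (refl E) hD) ⟨Ega2.Tens.runit E⟩)
  exact trans (symm (key A)) (trans (congr h (refl D)) (key B))

theorem cancel_left (hC : PicF.IsInvertible C)
    (h : Nonempty (CohB1.tensorMod C A ≅ CohB1.tensorMod C B)) : Nonempty (A ≅ B) :=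
  cancel_right hC (trans (comm A C) (trans h (comm C B)))

end K482.TensCalc
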