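import Groth.Agent.Dix.IdealModCartier
import Groth.Agent.CohqB.HSeqMod

/-!
# Small facts on modules (helper482)

* `idealMod_top`, `pullback_idealMod_trivial`: the ideal module of a divisor pulls back to `O` along a morphism missing it;
* `isZero_of_isEmpty`, `subsingleton_HH_of_isEmpty`: modules on the empty scheme.
-/

set_option autoImplicit false
universe u

open CategoryTheory CategoryTheory.Limits AlgebraicGeometry Opposite TopologicalSpace

namespace K482.Triv

open Groth.Agent Groth.Agent.Dix.IdealModCartier Groth.Agent.Divis.EffCartier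

variable {X Y : Scheme.{u}}

/-- The ideal module of the unit ideal is the structure sheaf. -/
theorem idealMod_top : Nonempty (ClSub.idealMod (⊤ : X.IdealSheafData) ≅ Coh.structureModule X) := by
  obtain ⟨e⟩ := idealMod_principal (X := X) (D := ⊤) (a := 1) (by
    intro W hW
    rw [map_one]
    refine ⟨one_mem _, ?_⟩
    rw [Ideal.span_singleton_one]
    rfl)
  exact ⟨e.symm⟩

/-- The ideal module of an effective Cartier divisor pulls back to the structure sheaf along a morphism
whose image misses the divisor. -/
theorem pullback_idealMod_trivial (g : Y ⟶ X) {D : X.IdealSheafData}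
    (hD : BlowUp.IsEffCartierIdeal D) (h : ∀ y : Y, g y ∉ D.support) :
    Nonempty ((Scheme.Modules.pullback g).obj (ClSub.idealMod D) ≅ Coh.structureModule Y) := by
  have h1 : D.comap g = ⊤ := by
    rw [← Scheme.IdealSheafData.support_eq_bot_iff]
    refine le_bot_iff.1 fun y hy => ?_
    rw [Scheme.IdealSheafData.support_comap] at hy
    exact (h y hy).elim
  have h2 : BlowUp.IsEffCartierIdeal (D.comap g) := by rw [h1]; exact isEff_top
  obtain ⟨e⟩ := pullback_idealMod g hD h2
  obtain ⟨e'⟩ := idealMod_top (X := Y)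
  rw [h1] at e
  exact ⟨e ≪≫ e'⟩

/-- Modules on the empty scheme. -/
theorem isZero_of_isEmpty [IsEmpty X] (M : X.Modules) : Limits.IsZero M := by
  rw [Limits.IsZero.iff_id_eq_zero]
  apply Scheme.Modules.hom_ext
  intro U
  ext m
  have h : ∀ s t : Γ(M, U), s = t := by
    intro s t
    refine TopCat.Sheaf.eq_of_locally_eq' ⟨_, M.isSheaf⟩ (fun i : PEmpty.{u+1} => i.elim) U
      (fun i : PEmpty.{u+1} => i.elim) ?_ _ _ (fun i : PEmpty.{u+1} => i.elim)
    intro x
    exact isEmptyElim x
  exact h _ _

theorem subsingleton_HH_of_isZero {M : X.Modules} (hM : Limits.IsZero M) (n : ℕ) :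
    Subsingleton (Coh.HH X M n) := by
  refine subsingleton_of_forall_eq 0 fun x => ?_
  have h1 := CohqB.HSeqMod.hmap_id_apply n x
  have h2 : CohqB.HSeqMod.hmap (0 : M ⟶ M) n x = 0 := by
    have h := CohqB.HSeqMod.hmap_add_apply (0 : M ⟶ M) 0 n x
    rw [add_zero] at h
    exact left_eq_add.1 h
  rw [← h1, hM.eq_of_src (𝟙 M) 0, h2]

end K482.Triv
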