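import Groth.Agent.CurvesB.CurveRR
import Groth.Agent.CurvesB.InvEmb
import Groth.Agent.Models.H45.FieldConst
import Groth.Agent.Dix.InterNum
import Groth.Agent.S0002

/-!
# Vanishing of `H^1` on an integral proper curve (helper482)

* `H1_vanish`: an invertible module of degree `> -2 χ(O)` on an integral proper curve over a field has `H^1 = 0`
  (no hypothesis on the field of constants).
-/

set_option autoImplicit false
universe u

open CategoryTheory CategoryTheory.Limits AlgebraicGeometry Opposite TopologicalSpace

namespace K482.CurveVan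

open Groth.Agent Groth.Agent.CurvesB

variable (k : Type u) [Field k] (Y : Scheme.{u}) [Y.Over (Spec (CommRingCat.of k))]

theorem eulerCharLE_one (M : Y.Modules) : FGA.eulerCharLE k Y M 1 =
    (Module.finrank k (Coh.HH Y M 0) : ℤ) - (Module.finrank k (Coh.HH Y M 1) : ℤ) := by
  simp [FGA.eulerCharLE, Finset.sum_range_succ]
  ring

theorem H1_vanish [IsIntegral Y] [IsProper (Y ↘ (Spec (CommRingCat.of k)))]
    (hdim : topologicalKrullDim Y = 1) (L : Y.Modules) (hL : PicF.IsInvertible L)
    (h : -2 * FGA.eulerCharLE k Y (Coh.structureModule Y) 1 < ArSurf.curveDeg k Y L) :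
    Subsingleton (Coh.HH Y L 1) := by
  by_contra hne
  rw [not_subsingleton_iff_nontrivial] at hne
  have hN : IsNoetherian Y := CurveRR.isNoetherian_of_proper k Y
  have hfin : ∀ M : Y.Modules, Coh.IsCoh M → ∀ i, Module.Finite k (Coh.HH Y M i) :=
    fun M hM i => Groth.Agent.S0002.result k Y M hM i
  have hOi : PicF.IsInvertible (Coh.structureModule Y) := Fdesc.LocGen.isInvertible_structureModule
  have hO : Coh.IsCoh (Coh.structureModule Y) := Groth.Agent.S2329.isCoh_of_isInvertible hOi
  have hLc : Coh.IsCoh L := Groth.Agent.S2329.isCoh_of_isInvertible hL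
  have i1 := hfin _ hO 1
  have i2 := hfin _ hLc 1
  have h0 := CurveRR.finrank_H0_le_genus (k := k) hdim.le
    (InvEmb.locEmb_of_isInvertible hL) hne
  have hpos : 0 < Module.finrank k (Coh.HH Y L 1) := Module.finrank_pos
  have hdvd := Groth.Agent.Models.H45.FieldConst.finrank_dvd_hh k Y L 1
  have hle := Nat.le_of_dvd hpos hdvd
  unfold Curv2.genus at h0
  unfold ArSurf.curveDeg at h
  rw [eulerCharLE_one, eulerCharLE_one] at h
  omega

end K482.CurveVan
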