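import Groth.Agent.ArSurf.K482.CanonTool
import Groth.Agent.Grpsch.PicGrp

/-!
# Determinants in the Picard group (helper482)

For `hE : IsFinLocFreeOfRank n E`, `det hE : Pic X` is the class of the top exterior power.

* `mk_eq_det`: any `n`-th exterior power represents it; `det_congr` (isomorphic modules), `det_pull`, `det_ses`, `det_rank_one`;
* `isInvertible_of_via`, `mk_via`: a canonical sheaf through `i, g` is invertible and
  `[ω] * det C_i = i^* det Ω_g`;
* `via_of_mk`: conversely.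
-/

set_option autoImplicit false
universe u
open CategoryTheory CategoryTheory.Limits AlgebraicGeometry
open Groth.Agent

namespace K482.DetPic

open K482.TensCalc K482.CanonTool
open Groth.Agent.Grpsch.PicGrp

variable {X Y : Scheme.{u}}

/-- The determinant. -/
noncomputable def det {n : ℕ} {E : X.Modules} (hE : FlatMod.IsFinLocFreeOfRank n E) : Pic X :=
  mk (exists_isExtPow n (Krr.H495.Rank.isFinLocFree_of_rank hE)).choose
    (isInvertible_extPow hE (exists_isExtPow n (Krr.H495.Rank.isFinLocFree_of_rank hE)).choose_spec)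

theorem mk_eq_det {n : ℕ} {E L : X.Modules} (hE : FlatMod.IsFinLocFreeOfRank n E) (hL : ExtPow.IsExtPow n E L)
    (h : PicF.IsInvertible L) : mk L h = det hE :=
  (mk_eq_iff _ _).2 (Sga67.TensorOps.nonempty_iso_of_isExtPow (Iso.refl _) hL
    (exists_isExtPow n (Krr.H495.Rank.isFinLocFree_of_rank hE)).choose_spec)

theorem isIso_of_isEmpty [IsEmpty X] (M N : X.Modules) : Nonempty (M ≅ N) :=
  ⟨(Krr.H495.Rank.isZero_of_rank_zero (fun x => isEmptyElim x)).iso
    (Krr.H495.Rank.isZero_of_rank_zero (fun x => isEmptyElim x))⟩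

theorem subsingleton_pic [IsEmpty X] (a b : Pic X) : a = b := by
  obtain ⟨L, hL, rfl⟩ := exists_mk a
  obtain ⟨M, hM, rfl⟩ := exists_mk b
  exact (mk_eq_iff _ _).2 (isIso_of_isEmpty L M)

theorem det_congr {n m : ℕ} {E E' : X.Modules} (hE : FlatMod.IsFinLocFreeOfRank n E)
    (hE' : FlatMod.IsFinLocFreeOfRank m E') (e : Nonempty (E ≅ E')) : det hE = det hE' := by
  rcases isEmpty_or_nonempty X with h | h
  · exact subsingleton_pic _ _
  obtain ⟨e⟩ := e
  obtain rfl : n = m := Krr.H495.Rank.rank_unique (Krr.H495.Rank.rank_iso e hE) hE'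
  exact (mk_eq_iff _ _).2 (Sga67.TensorOps.nonempty_iso_of_isExtPow e
    (exists_isExtPow n (Krr.H495.Rank.isFinLocFree_of_rank hE)).choose_spec
    (exists_isExtPow n (Krr.H495.Rank.isFinLocFree_of_rank hE')).choose_spec)

theorem det_pull (f : X ⟶ Y) {n : ℕ} {E : Y.Modules} (hE : FlatMod.IsFinLocFreeOfRank n E)
    (h : FlatMod.IsFinLocFreeOfRank n ((Scheme.Modules.pullback f).obj E)) : det h = pull f (det hE) := by
  obtain ⟨L, hL⟩ := exists_isExtPow n (Krr.H495.Rank.isFinLocFree_of_rank hE)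
  rw [← mk_eq_det hE hL (isInvertible_extPow hE hL), pull_mk]
  exact (mk_eq_det h (isExtPow_pullback f (Krr.H495.Rank.isFinLocFree_of_rank hE) hL) _).symm

theorem det_ses {S : ShortComplex X.Modules} (hS : S.ShortExact) {a b c : ℕ}
    (h₁ : FlatMod.IsFinLocFreeOfRank a S.X₁) (h₂ : FlatMod.IsFinLocFreeOfRank c S.X₂)
    (h₃ : FlatMod.IsFinLocFreeOfRank b S.X₃) : det h₂ = det h₁ * det h₃ := by
  have h₂' := Krr.H495.Rank.rank_shortExact hS h₁ h₃
  rw [det_congr h₂ h₂' ⟨Iso.refl _⟩]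
  obtain ⟨L₁, hL₁⟩ := exists_isExtPow a (Krr.H495.Rank.isFinLocFree_of_rank h₁)
  obtain ⟨L₂, hL₂⟩ := exists_isExtPow (a + b) (Krr.H495.Rank.isFinLocFree_of_rank h₂')
  obtain ⟨L₃, hL₃⟩ := exists_isExtPow b (Krr.H495.Rank.isFinLocFree_of_rank h₃)
  rw [← mk_eq_det h₁ hL₁ (isInvertible_extPow h₁ hL₁), ← mk_eq_det h₂' hL₂ (isInvertible_extPow h₂' hL₂),
    ← mk_eq_det h₃ hL₃ (isInvertible_extPow h₃ hL₃), mk_mul_mk, mk_eq_iff]
  exact symm (DetSes.det_ses hS h₁ h₃ hL₁ hL₂ hL₃)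

theorem isInvertible_of_rank_one {E : X.Modules} (hE : FlatMod.IsFinLocFreeOfRank 1 E) : PicF.IsInvertible E :=
  Ega2.QCohLocal.isFinLocFreeOfRank_one_iff.1 hE

theorem det_rank_one {E : X.Modules} (hE : FlatMod.IsFinLocFreeOfRank 1 E) (h : PicF.IsInvertible E) :
    det hE = mk E h := (mk_eq_det hE (Sga67.TensorOps.isExtPow_one E) h).symm

theorem isInvertible_of_iso {L M : X.Modules} (e : L ≅ M) (h : PicF.IsInvertible L) : PicF.IsInvertible M :=
  fun x => by
    obtain ⟨U, hx, ⟨e'⟩⟩ := h x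
    exact ⟨U, hx, ⟨(Scheme.Modules.restrictFunctor U.ι).mapIso e.symm ≪≫ e'⟩⟩

/-- If `A ⊗ B ≅ C` with `B`, `C` invertible then `A` is invertible. -/
theorem isInvertible_of_tensor {A B C : X.Modules} (hB : PicF.IsInvertible B) (hC : PicF.IsInvertible C)
    (h : Nonempty (CohB1.tensorMod A B ≅ C)) : PicF.IsInvertible A := by
  obtain ⟨B', hB', e⟩ := exists_inverse hB
  have h1 : Nonempty (A ≅ CohB1.tensorMod C B') :=
    trans (symm ⟨Ega2.Tens.runit A⟩) (trans (congr (refl A) (symm e)) (trans (symm (assoc _ _ _))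
      (congr h (refl _))))
  obtain ⟨e1⟩ := h1
  exact isInvertible_of_iso e1.symm (Fdesc.LocGen.isInvertible_tensorMod hC hB')

section Via

variable {Z : Scheme.{u}} {i : X ⟶ Z} {g : Z ⟶ Y} {c n : ℕ} (hC : FlatMod.IsFinLocFreeOfRank c (Omega.conormal i))
  (hΩ : FlatMod.IsFinLocFreeOfRank n (Omega.sheaf g))

include hC hΩ in
theorem isInvertible_of_via {ω : X.Modules} (h : Canon.IsCanonicalVia i g c n ω) : PicF.IsInvertible ω := by
  obtain ⟨DC, DΩ, h1, h2, h3⟩ := h
  exact isInvertible_of_tensor (isInvertible_extPow hC h1)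
    (Fdesc.LocGen.isInvertible_pullback i (isInvertible_extPow hΩ h2)) h3

theorem mk_via {ω : X.Modules} (h : Canon.IsCanonicalVia i g c n ω) (hω : PicF.IsInvertible ω) :
    mk ω hω * det hC = pull i (det hΩ) := by
  obtain ⟨DC, DΩ, h1, h2, h3⟩ := h
  rw [← mk_eq_det hC h1 (isInvertible_extPow hC h1), ← mk_eq_det hΩ h2 (isInvertible_extPow hΩ h2), pull_mk,
    mk_mul_mk, mk_eq_iff]
  exact h3

theorem via_of_mk {ω : X.Modules} (hω : PicF.IsInvertible ω) (h : mk ω hω * det hC = pull i (det hΩ)) :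
    Canon.IsCanonicalVia i g c n ω := by
  obtain ⟨DC, h1⟩ := exists_isExtPow c (Krr.H495.Rank.isFinLocFree_of_rank hC)
  obtain ⟨DΩ, h2⟩ := exists_isExtPow n (Krr.H495.Rank.isFinLocFree_of_rank hΩ)
  rw [← mk_eq_det hC h1 (isInvertible_extPow hC h1), ← mk_eq_det hΩ h2 (isInvertible_extPow hΩ h2), pull_mk,
    mk_mul_mk, mk_eq_iff] at h
  exact ⟨DC, DΩ, h1, h2, h⟩

end Via

end K482.DetPic
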