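import Groth.Agent.Sga67.KosConormal
import Groth.Agent.Smoothlim.ConormalRes
import Groth.Agent.Krr.H495.Rank
import Groth.Prelude.Def_RegImm

/-!
# The conormal sheaf of a regular immersion of codimension `c` is locally free of rank `c` (helper482)
-/

set_option autoImplicit false

universe u

open CategoryTheory CategoryTheory.Limits AlgebraicGeometry Opposite TopologicalSpace
open Groth.Agent
open Groth.Agent.Sga67.Sec Groth.Agent.Sga67.LocBasis

namespace K482.ConRank

/-- Closed immersion, globally cut out by a weakly regular sequence on an affine target. -/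
theorem conormal_iso_free {X Z : Scheme.{u}} (i : X ⟶ Z) [IsClosedImmersion i] (hZ : IsAffineOpen (⊤ : Z.Opens))
    (l : List Γ(Z, ⊤)) (hl : RingTheory.Sequence.IsWeaklyRegular Γ(Z, ⊤) l)
    (hker : RingHom.ker (i.app ⊤).hom = Ideal.ofList l) :
    Nonempty (Omega.conormal i ≅ FlatMod.freeMod X l.length) := by
  let ch : Sga67.KosImm.Chart i := ⟨⊤, hZ, l, hl, by
    rw [Scheme.Hom.ker_apply]; exact hker⟩
  have h := Sga67.KosConormal.isLocBasis_fN ch
  exact nonempty_iso_free (M := Omega.conormal i) (n := l.length) h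

theorem restrict_iso {X Z : Scheme.{u}} (i : X ⟶ Z) [QuasiCompact i] (U : Z.Opens) :
    Nonempty ((Omega.conormal i).restrict (i ⁻¹ᵁ U).ι ≅ Omega.conormal (i ∣_ U)) :=
  ⟨(Scheme.Modules.restrictFunctorIsoPullback (i ⁻¹ᵁ U).ι).app _ ≪≫
    Smoothlim.ConormalRes.conormalIso (isPullback_morphismRestrict i U)⟩

/-- The conormal sheaf of a quasi-compact regular immersion of codimension `c` is locally free of rank `c`. -/
theorem isFinLocFreeOfRank_conormal {X Z : Scheme.{u}} (i : X ⟶ Z) [QuasiCompact i] {c : ℕ}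
    (hi : RegImm.IsRegularImmersionOfCodim .regular c i) :
    FlatMod.IsFinLocFreeOfRank c (Omega.conormal i) := by
  intro x
  obtain ⟨⟨U, hU⟩, hx, hcl, rs, hlen, hreg, hker⟩ := hi.2 x
  refine ⟨i ⁻¹ᵁ U, hx, ?_⟩
  obtain ⟨e⟩ := restrict_iso i U
  have key : ∀ W : Z.Opens, W = U → ∃ l : List Γ(Z, W), l.length = c ∧
      RingTheory.Sequence.IsWeaklyRegular Γ(Z, W) l ∧ RingHom.ker (i.app W).hom = Ideal.ofList l := by
    rintro _ rfl
    exact ⟨rs, hlen, hreg.toIsWeaklyRegular, hker⟩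
  obtain ⟨l, hl, hreg', hker'⟩ := key (U.ι ''ᵁ ⊤) (by simp)
  have hcl' : IsClosedImmersion (i ∣_ U) := hcl
  have hU' : IsAffineOpen (⊤ : (U : Scheme.{u}).Opens) := by
    have : IsAffine (U : Scheme.{u}) := hU
    exact isAffineOpen_top _
  have h : Nonempty (Omega.conormal (i ∣_ U) ≅ FlatMod.freeMod _ l.length) := by
    refine conormal_iso_free (i ∣_ U) hU' l hreg' ?_
    have h1 : (i ∣_ U).app ⊤ = i.app (U.ι ''ᵁ ⊤) ≫
        X.presheaf.map (eqToHom (image_morphismRestrict_preimage i U ⊤)).op := morphismRestrict_app i U ⊤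
    refine Eq.trans (Ideal.ext fun a => ?_) hker'
    refine Iff.trans (b := ((i ∣_ U).app ⊤).hom a = 0) Iff.rfl ?_
    refine Iff.trans ?_ (Iff.rfl : (i.app (U.ι ''ᵁ ⊤)).hom a = 0 ↔ _)
    have h2 : ((i ∣_ U).app ⊤).hom a = (X.presheaf.map (eqToHom (image_morphismRestrict_preimage i U ⊤)).op).hom
      ((i.app (U.ι ''ᵁ ⊤)).hom a) := congr(($h1).hom a)
    rw [h2]
    exact map_eq_zero_iff _ (ConcreteCategory.bijective_of_isIso
      (X.presheaf.map (eqToHom (image_morphismRestrict_preimage i U ⊤)).op)).1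
  rw [hl] at h
  obtain ⟨e'⟩ := h
  exact ⟨e ≪≫ e'⟩

end K482.ConRank
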