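import Groth.Agent.ArSurf.K482.DetSes
import Groth.Agent.ArSurf.K482.ConRank
import Groth.Agent.ArSurf.K482.TensCalc
import Groth.Agent.Krr.H492.ConProd
import Groth.Agent.Krr.H482.PullLambda
import Groth.Agent.Krr.H487.ExtPull
import Groth.Agent.Dual.H339.OmegaRank
import Groth.Prelude.Def_Canon

/-!
# Canonical sheaves: tools (helper482)

* `isInvertible_extPow`, `exists_isExtPow`, `isExtPow_pullback`;
* `nonempty_conormal_iso`: the conormal sheaf does not change under an isomorphism of the target;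
* `half`: `det C_{X/Z₁} ⊗ (ω₂ ⊗ det C_{X/Z₂}) ≅ det C_{X/Z₂ ×_Y Z₁}`.
-/

set_option autoImplicit false
universe u
open CategoryTheory CategoryTheory.Limits AlgebraicGeometry
open Canon Groth.Agent

namespace K482.CanonTool

open K482.TensCalc
open Groth.Agent.Grpsch.ConormalIso

/-- The top exterior power is invertible. -/
theorem isInvertible_extPow {X : Scheme.{u}} {m : ℕ} {E L : X.Modules} (hE : FlatMod.IsFinLocFreeOfRank m E)
    (hL : ExtPow.IsExtPow m E L) : PicF.IsInvertible L := by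
  rw [← Ega2.QCohLocal.isFinLocFreeOfRank_one_iff, Krr.H495.Rank.isFinLocFreeOfRank_iff]
  have hE' := Krr.H495.Rank.isFinLocFree_of_rank hE
  refine ⟨Sga67.LocBasis.isFinLocFree_of_isExtPow hE' hL, fun x => ?_⟩
  rw [Krr.H495.Rank.rk_extPow hE' hL, Krr.H495.Rank.rk_of_rank hE, Nat.choose_self]

theorem exists_isExtPow {X : Scheme.{u}} (i : ℕ) {E : X.Modules} (hE : FlatMod.IsFinLocFree E) :
    ∃ L : X.Modules, ExtPow.IsExtPow i E L :=
  Dual.H366.ExtQCoh.exists_isExtPow i (Ega2.QCohLocal.isQCoh_of_isFinLocFree hE)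

theorem isExtPow_pullback {X Y : Scheme.{u}} (f : X ⟶ Y) {i : ℕ} {E L : Y.Modules} (hE : FlatMod.IsFinLocFree E)
    (hL : ExtPow.IsExtPow i E L) :
    ExtPow.IsExtPow i ((Scheme.Modules.pullback f).obj E) ((Scheme.Modules.pullback f).obj L) :=
  Krr.H487.ExtPull.isExtPow_pullback f hE hL
    (exists_isExtPow i (Krr.H482.PullLambda.isFinLocFree_pullback f hE))

/-- The conormal sheaf does not change under an isomorphism of the target. -/
theorem nonempty_conormal_iso {X Q Q' : Scheme.{u}} (e : Q ≅ Q') (i : X ⟶ Q) [IsPreimmersion i] [QuasiCompact i] :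
    Nonempty (Omega.conormal i ≅ Omega.conormal (i ≫ e.hom)) := by
  have w : (i ≫ e.hom) ≫ e.inv = 𝟙 X ≫ i := by simp
  have H : IsPullback (i ≫ e.hom) (𝟙 X) e.inv i := IsPullback.of_vert_isIso ⟨w⟩
  have := isIso_conormalMap_of_flat H
  exact ⟨((Scheme.Modules.pullbackId X).app (Omega.conormal i)).symm ≪≫ asIso (conormalMap H.w)⟩

/-- A map to a product which is a quasi-compact preimmersion in one coordinate is one. -/
theorem isPreimmersion_lift {X T P B : Scheme.{u}} (f : T ⟶ B) (p : P ⟶ B) (i₁ : X ⟶ P) (h : X ⟶ T)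
    (w : h ≫ f = i₁ ≫ p) [IsPreimmersion i₁] [QuasiCompact i₁] [QuasiSeparated f] :
    IsPreimmersion (pullback.lift h i₁ w) ∧ QuasiCompact (pullback.lift h i₁ w) := by
  open Groth.Agent.Krr.H492.ConProd in
  have hq : sg f p i₁ h w ≫ pullback.snd f (i₁ ≫ p) = 𝟙 X := pullback.lift_snd _ _ _
  have hσ : IsPreimmersion (sg f p i₁ h w) := isPreimmersion_of_section hq
  have hσc : QuasiCompact (sg f p i₁ h w) := quasiCompact_of_section hq
  have hj : IsPreimmersion (jj f p i₁) :=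
    MorphismProperty.of_isPullback (isPullback_jj f p i₁).flip inferInstance
  have hjc : QuasiCompact (jj f p i₁) :=
    MorphismProperty.of_isPullback (isPullback_jj f p i₁).flip inferInstance
  rw [← sg_jj f p i₁ h w]
  exact ⟨inferInstance, inferInstance⟩

/-- Half of the comparison: `ω₂ ⊗ C₂ ⊗ C₁ ≅ det C_W`. -/
theorem half (X Y Z₁ Z₂ : Scheme.{u}) (i₁ : X ⟶ Z₁) (g₁ : Z₁ ⟶ Y) (i₂ : X ⟶ Z₂) (g₂ : Z₂ ⟶ Y)
    [QuasiCompact i₁] [QuasiCompact i₂] [QuasiSeparated g₂]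
    (h : i₂ ≫ g₂ = i₁ ≫ g₁) (c₁ n₂ : ℕ)
    (hi₁ : RegImm.IsRegularImmersionOfCodim .regular c₁ i₁)
    (hg₂ : SmoothOfRelativeDimension n₂ g₂)
    {DC₁ DC₂ : X.Modules} {DΩ₂ : Z₂.Modules}
    (hDC₁ : ExtPow.IsExtPow c₁ (Omega.conormal i₁) DC₁)
    (hDΩ₂ : ExtPow.IsExtPow n₂ (Omega.sheaf g₂) DΩ₂) {ω₂ : X.Modules}
    (e₂ : Nonempty (CohB1.tensorMod ω₂ DC₂ ≅ (Scheme.Modules.pullback i₂).obj DΩ₂)) :
    ∃ S : ShortComplex X.Modules, S.ShortExact ∧ FlatMod.IsFinLocFreeOfRank c₁ S.X₁ ∧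
      FlatMod.IsFinLocFreeOfRank n₂ S.X₃ ∧
      Nonempty (S.X₂ ≅ Omega.conormal (pullback.lift i₂ i₁ h)) ∧
      ∀ L : X.Modules, ExtPow.IsExtPow (c₁ + n₂) S.X₂ L →
        Nonempty (CohB1.tensorMod DC₁ (CohB1.tensorMod ω₂ DC₂) ≅ L) := by
  have hsm : Smooth g₂ := SmoothOfRelativeDimension.smooth n₂ g₂
  have himm : IsImmersion i₁ := hi₁.1
  obtain ⟨S, hS, ⟨a⟩, hb, ⟨c⟩⟩ := Krr.H492.ConProd.exists_shortExact g₂ g₁ i₁ i₂ h
  have r₁ : FlatMod.IsFinLocFreeOfRank c₁ (Omega.conormal i₁) :=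
    K482.ConRank.isFinLocFreeOfRank_conormal i₁ hi₁
  have rΩ : FlatMod.IsFinLocFreeOfRank n₂ (Omega.sheaf g₂) :=
    Dual.H339.OmegaRank.isFinLocFreeOfRank_omega n₂ g₂
  have hX₁ : FlatMod.IsFinLocFreeOfRank c₁ S.X₁ := Krr.H495.Rank.rank_iso a.symm r₁
  have hX₃ : FlatMod.IsFinLocFreeOfRank n₂ S.X₃ :=
    Krr.H495.Rank.rank_iso c.symm (Krr.H482.PullLambda.isFinLocFreeOfRank_pullback i₂ rΩ)
  refine ⟨S, hS, hX₁, hX₃, hb, fun L hL => ?_⟩
  obtain ⟨L₁, hL₁⟩ := Dual.H366.ExtQCoh.exists_isExtPow c₁ (Ega2.QCohLocal.isQCoh_of_isFinLocFree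
    (Krr.H495.Rank.isFinLocFree_of_rank hX₁))
  obtain ⟨L₃, hL₃⟩ := Dual.H366.ExtQCoh.exists_isExtPow n₂ (Ega2.QCohLocal.isQCoh_of_isFinLocFree
    (Krr.H495.Rank.isFinLocFree_of_rank hX₃))
  have hd := K482.DetSes.det_ses hS hX₁ hX₃ hL₁ hL hL₃
  have h1 : Nonempty (DC₁ ≅ L₁) := Sga67.TensorOps.nonempty_iso_of_isExtPow a.symm hDC₁ hL₁
  have h3 : Nonempty ((Scheme.Modules.pullback i₂).obj DΩ₂ ≅ L₃) :=
    Sga67.TensorOps.nonempty_iso_of_isExtPow c.symm (isExtPow_pullback i₂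
      (Krr.H495.Rank.isFinLocFree_of_rank rΩ) hDΩ₂) hL₃
  exact trans (congr h1 (trans e₂ h3)) hd

end K482.CanonTool
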