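import Groth.Agent.S13305
import Groth.Agent.ArSurf.K482.DetPic

/-!
# Canonical sheaves can be computed through any factorisation (helper482)

* `canonical_iff_via`: for `f = i ≫ g` (`i` quasi-compact regular immersion of codimension `c`, `g` quasi-separated smooth of
  relative dimension `n`): `IsCanonical f ω ↔ IsCanonicalVia i g c n ω`;
* `exists_canonical`, `isInvertible_canonical`, `canonical_unique`.
-/

set_option autoImplicit false
universe u
open CategoryTheory CategoryTheory.Limits AlgebraicGeometry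
open Groth.Agent

namespace K482.CanonVia

open K482.DetPic K482.CanonTool K482.TensCalc
open Groth.Agent.Grpsch.PicGrp

variable {X Y Z : Scheme.{u}}

theorem via_of_iso {i : X ⟶ Z} {g : Z ⟶ Y} {c n : ℕ} {ω ω' : X.Modules} (e : Nonempty (ω ≅ ω'))
    (h : Canon.IsCanonicalVia i g c n ω) : Canon.IsCanonicalVia i g c n ω' := by
  obtain ⟨DC, DΩ, h1, h2, h3⟩ := h
  exact ⟨DC, DΩ, h1, h2, trans (congr (symm e) (refl _)) h3⟩

theorem exists_via {i : X ⟶ Z} {g : Z ⟶ Y} {c n : ℕ} (hC : FlatMod.IsFinLocFreeOfRank c (Omega.conormal i))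
    (hΩ : FlatMod.IsFinLocFreeOfRank n (Omega.sheaf g)) :
    ∃ ω : X.Modules, PicF.IsInvertible ω ∧ Canon.IsCanonicalVia i g c n ω := by
  obtain ⟨ω, hω, e⟩ := exists_mk (pull i (det hΩ) * (det hC)⁻¹)
  refine ⟨ω, hω, via_of_mk hC hΩ hω ?_⟩
  rw [← e, inv_mul_cancel_right]

section

variable {f : X ⟶ Y} [IsLocallyNoetherian Y] [LocallyOfFiniteType f] [QuasiCompact f]
  (i : X ⟶ Z) (g : Z ⟶ Y) (h : i ≫ g = f) [QuasiCompact i] [QuasiSeparated g] {c n : ℕ}
  (hi : RegImm.IsRegularImmersionOfCodim .regular c i) (hg : SmoothOfRelativeDimension n g)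

include h hi hg in
theorem canonical_of_via {ω : X.Modules} (hω : Canon.IsCanonicalVia i g c n ω) : Canon.IsCanonical f ω :=
  ⟨Z, i, g, c, n, h, hi, hg, inferInstance, inferInstance, hω⟩

include h hi hg in
theorem via_of_canonical {ω : X.Modules} (hω : Canon.IsCanonical f ω) : Canon.IsCanonicalVia i g c n ω := by
  obtain ⟨Z', i', g', c', n', h', hi', hg', hqc, hqs, hω'⟩ := hω
  obtain ⟨ω₀, -, h₀⟩ := exists_via (i := i) (g := g) (ConRank.isFinLocFreeOfRank_conormal i hi)
    (Dual.H339.OmegaRank.isFinLocFreeOfRank_omega n g)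
  exact via_of_iso (S13305.result X Y Z Z' f i g i' g' h h' c n c' n' hi hg hi' hg' ω₀ ω h₀ hω') h₀

include h hi hg in
theorem canonical_iff_via {ω : X.Modules} : Canon.IsCanonical f ω ↔ Canon.IsCanonicalVia i g c n ω :=
  ⟨via_of_canonical i g h hi hg, canonical_of_via i g h hi hg⟩

end

theorem isInvertible_canonical {f : X ⟶ Y} {ω : X.Modules} (hω : Canon.IsCanonical f ω) : PicF.IsInvertible ω := by
  obtain ⟨Z, i, g, c, n, h, hi, hg, hqc, hqs, hω⟩ := hω
  exact isInvertible_of_via (ConRank.isFinLocFreeOfRank_conormal i hi)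
    (Dual.H339.OmegaRank.isFinLocFreeOfRank_omega n g) hω

theorem canonical_unique {f : X ⟶ Y} [IsLocallyNoetherian Y] [LocallyOfFiniteType f] [QuasiCompact f]
    {ω ω' : X.Modules} (hω : Canon.IsCanonical f ω) (hω' : Canon.IsCanonical f ω') : Nonempty (ω ≅ ω') := by
  obtain ⟨Z, i, g, c, n, h, hi, hg, hqc, hqs, hω⟩ := hω
  obtain ⟨Z', i', g', c', n', h', hi', hg', hqc', hqs', hω'⟩ := hω'
  exact S13305.result X Y Z Z' f i g i' g' h h' c n c' n' hi hg hi' hg' ω ω' hω hω'

theorem canonical_of_iso {f : X ⟶ Y} {ω ω' : X.Modules} (e : Nonempty (ω ≅ ω')) (hω : Canon.IsCanonical f ω) :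
    Canon.IsCanonical f ω' := by
  obtain ⟨Z, i, g, c, n, h, hi, hg, hqc, hqs, hω⟩ := hω
  exact ⟨Z, i, g, c, n, h, hi, hg, hqc, hqs, via_of_iso e hω⟩

end K482.CanonVia
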