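import Groth.Agent.Krr.H501.RegLen
import Groth.Agent.Grpsch.PicGrp
import Groth.Agent.Ega2.QCohLocal
import Groth.Prelude.Def_BlowUp2
import Mathlib.RingTheory.DiscreteValuationRing.Basic
import Mathlib.RingTheory.RegularLocalRing.Defs

/-!
# The closed point of the spectrum of a discrete valuation ring is an effective Cartier divisor (helper482)
-/

set_option autoImplicit false
universe u
open CategoryTheory CategoryTheory.Limits AlgebraicGeometry

namespace K482.ClosedPt

open Groth.Agent Groth.Agent.Krr.H501.RegLen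

/-- A closed immersion with effective Cartier ideal is regular of codimension one. -/
theorem isRegular_and_rank_of_isEff {Z X : Scheme.{u}} (i : Z ⟶ X) [IsClosedImmersion i]
    (h : BlowUp.IsEffCartierIdeal i.ker) :
    Mor2.IsRegularClosedImmersion i ∧ FlatMod.IsFinLocFreeOfRank 1 (Omega.conormal i) := by
  rw [isRegular_and_rank_iff]
  intro z
  obtain ⟨U, hx, a, ha, hU⟩ := h (i z)
  refine ⟨U, hx, [a], ?_, rfl, ?_⟩
  · rw [RingTheory.Sequence.isWeaklyRegular_singleton_iff, isSMulRegular_iff_right_eq_zero_of_smul]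
    intro y hy
    rw [mem_nonZeroDivisors_iff_left] at ha
    exact ha y hy
  · rw [Ideal.ofList_singleton]
    exact hU

variable (R : Type u) [CommRing R] [IsDomain R] [IsDiscreteValuationRing R]

/-- The closed point. -/
noncomputable abbrev κ : Spec (CommRingCat.of (IsLocalRing.ResidueField R)) ⟶ Spec (CommRingCat.of R) :=
  Spec.map (CommRingCat.ofHom (IsLocalRing.residue R))

instance isClosedImmersion_κ : IsClosedImmersion (κ R) :=
  IsClosedImmersion.spec_of_surjective _ IsLocalRing.residue_surjective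

theorem ker_app_κ {ϖ : R} (hϖ : Irreducible ϖ) (a : Γ(Spec (CommRingCat.of R), ⊤)) :
    ((κ R).app ⊤).hom a = 0 ↔ (Scheme.ΓSpecIso (CommRingCat.of R)).inv.hom ϖ ∣ a := by
  let e : R ≃+* Γ(Spec (CommRingCat.of R), ⊤) :=
    (Scheme.ΓSpecIso (CommRingCat.of R)).symm.commRingCatIsoToRingEquiv
  obtain ⟨r, rfl⟩ := e.surjective a
  have h1 : ((κ R).app ⊤).hom (e r) = (Scheme.ΓSpecIso (CommRingCat.of (IsLocalRing.ResidueField R))).inv.hom
      (IsLocalRing.residue R r) :=
    congr($(Scheme.ΓSpecIso_inv_naturality (CommRingCat.ofHom (IsLocalRing.residue R))).hom r).symm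
  have h2 : (Scheme.ΓSpecIso (CommRingCat.of (IsLocalRing.ResidueField R))).inv.hom
      (IsLocalRing.residue R r) = 0 ↔ IsLocalRing.residue R r = 0 :=
    map_eq_zero_iff _ (ConcreteCategory.bijective_of_isIso
      (Scheme.ΓSpecIso (CommRingCat.of (IsLocalRing.ResidueField R))).inv).1
  have h3 : ((κ R).app ⊤).hom (e r) = 0 ↔ IsLocalRing.residue R r = 0 :=
    ⟨fun h => h2.1 (h1.symm.trans h), fun h => h1.trans (h2.2 h)⟩
  rw [h3, IsLocalRing.residue_eq_zero_iff, hϖ.maximalIdeal_eq, Ideal.mem_span_singleton]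
  exact (map_dvd_iff e).symm

theorem isEff_κ : BlowUp.IsEffCartierIdeal (κ R).ker := by
  obtain ⟨ϖ, hϖ⟩ := IsDiscreteValuationRing.exists_irreducible R
  let e : R ≃+* Γ(Spec (CommRingCat.of R), ⊤) :=
    (Scheme.ΓSpecIso (CommRingCat.of R)).symm.commRingCatIsoToRingEquiv
  intro x
  refine ⟨⟨⊤, isAffineOpen_top _⟩, trivial, (Scheme.ΓSpecIso (CommRingCat.of R)).inv.hom ϖ, ?_, ?_⟩
  · have h : IsDomain Γ(Spec (CommRingCat.of R), ⊤) := MulEquiv.isDomain R e.symm.toMulEquiv
    rw [mem_nonZeroDivisors_iff_ne_zero]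
    intro h
    exact hϖ.ne_zero (e.injective (h.trans (map_zero e).symm))
  · rw [Scheme.Hom.ker_apply]
    exact Ideal.ext fun a => (ker_app_κ R hϖ a).trans Ideal.mem_span_singleton.symm

theorem regular_κ : Mor2.IsRegularClosedImmersion (κ R) ∧
    FlatMod.IsFinLocFreeOfRank 1 (Omega.conormal (κ R)) :=
  isRegular_and_rank_of_isEff _ (isEff_κ R)

/-- The conormal sheaf of the closed point is trivial. -/
theorem conormal_κ : Nonempty (Omega.conormal (κ R) ≅ Coh.structureModule _) := by
  have h : PicF.IsInvertible (Omega.conormal (κ R)) :=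
    Ega2.QCohLocal.isFinLocFreeOfRank_one_iff.1 (regular_κ R).2
  have h1 := Grpsch.PicGrp.pic_spec_local (IsLocalRing.ResidueField R) (Grpsch.PicGrp.mk _ h)
  exact (Grpsch.PicGrp.mk_eq_one_iff h).1 h1

omit [IsDiscreteValuationRing R] in
/-- The stalks of the spectrum of a principal ideal domain are regular. -/
theorem regular_stalk [IsPrincipalIdealRing R] (y : Spec (CommRingCat.of R)) :
    IsRegularLocalRing ((Spec (CommRingCat.of R)).presheaf.stalk y) := by
  let k : Algebra R ((Spec (CommRingCat.of R)).presheaf.stalk y) :=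
    StructureSheaf.stalkAlgebra R y
  have h1 : IsLocalization.AtPrime ((Spec (CommRingCat.of R)).presheaf.stalk y) y.asIdeal :=
    StructureSheaf.IsLocalization.to_stalk (CommRingCat.of R) y
  have h2 : IsDomain ((Spec (CommRingCat.of R)).presheaf.stalk y) :=
    IsLocalization.isDomain_of_le_nonZeroDivisors (R := R) _ (M := y.asIdeal.primeCompl)
      (Ideal.primeCompl_le_nonZeroDivisors _)
  have h3 : IsPrincipalIdealRing ((Spec (CommRingCat.of R)).presheaf.stalk y) := by
    constructor
    intro I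
    obtain ⟨x, hx⟩ := (IsPrincipalIdealRing.principal (Ideal.under R I)).principal
    refine ⟨⟨algebraMap R _ x, ?_⟩⟩
    rw [← IsLocalization.map_under y.asIdeal.primeCompl _ I, hx]
    change Ideal.map (algebraMap R _) (Ideal.span {x}) = Ideal.span {algebraMap R _ x}
    rw [Ideal.map_span, Set.image_singleton]
  infer_instance

end K482.ClosedPt
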