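import Groth.Agent.RegImm.K559.ConSeq
import Groth.Agent.OmegaSh.K583.ConMap
import Groth.Agent.SDiv.K473.RegImmCalc
import Groth.Agent.Krr.H501.RegLen
import Groth.Prelude.Def_RegImm

/-!
# Conormal sequence of a composition of closed immersions, and conversions between the notions of regular immersion
(helper482)
-/

set_option autoImplicit false
universe u
open CategoryTheory CategoryTheory.Limits AlgebraicGeometry

namespace K482.ConComp

open Groth.Agent Groth.Agent.Krr.H501.RegLen Groth.Agent.Divis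

/-- Weakly regular local equations of length `c` at all points: a regular immersion of codimension `c`. -/
theorem regImm_of_regAtLen {X Y : Scheme.{u}} {i : Y ⟶ X} [IsClosedImmersion i] {c : ℕ}
    (h : ∀ y, RegAtLen i.ker c (i y)) :
    RegImm.IsRegularImmersionOfCodim RegImm.Kind.regular c i := by
  refine ⟨inferInstance, fun y => ?_⟩
  obtain ⟨U, hy, rs, hrs, hl, hI⟩ := h y
  have hI' : RingHom.ker (i.app U.1).hom = Ideal.ofList rs := by
    rw [← hI]; exact (i.ker_apply U).symm
  refine ⟨U, hy, inferInstance, rs, hl, ?_, hI'⟩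
  refine ⟨hrs, ?_⟩
  intro htop
  have h1 : (1 : Γ(X, U.1)) ∈ Ideal.ofList rs := by
    have : (1 : Γ(X, U.1)) ∈ (⊤ : Submodule Γ(X, U.1) Γ(X, U.1)) := trivial
    rw [htop, smul_eq_mul, Ideal.mul_top] at this
    exact this
  rw [← hI', RingHom.mem_ker, map_one] at h1
  have h2 : IsUnit ((0 : Γ(Y, i ⁻¹ᵁ U.1))) := h1 ▸ isUnit_one
  have h3 := (Y.mem_basicOpen (0 : Γ(Y, i ⁻¹ᵁ U.1)) y hy).2 (h2.map (Y.presheaf.germ _ y hy).hom)
  rw [Scheme.basicOpen_zero] at h3
  exact h3

/-- A regular closed immersion with conormal sheaf of rank `c` is a regular immersion of codimension `c`. -/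
theorem regImm_of_rank {X Y : Scheme.{u}} {i : Y ⟶ X} {c : ℕ} (h : Mor2.IsRegularClosedImmersion i)
    (hc : FlatMod.IsFinLocFreeOfRank c (Omega.conormal i)) :
    RegImm.IsRegularImmersionOfCodim RegImm.Kind.regular c i := by
  have := h.1
  exact regImm_of_regAtLen ((isRegular_and_rank_iff i c).1 ⟨h, hc⟩)

/-- A regular closed immersion in the sense of `Mor2` is a regular immersion in the sense of `RegImm`. -/
theorem regImm_of_regular {X Y : Scheme.{u}} {i : Y ⟶ X} (h : Mor2.IsRegularClosedImmersion i) :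
    RegImm.IsRegularImmersion RegImm.Kind.regular i := by
  have := h.1
  refine ⟨inferInstance, fun y => ?_⟩
  obtain ⟨U, hU, hy, rs, hrs, hI⟩ := h.2 y
  exact ⟨⟨U, hU⟩, hy, inferInstance, rs, hrs, by rw [← hI]; exact (i.ker_apply ⟨U, hU⟩).symm⟩

/-- The conormal sequence of a composition, the first immersion being regular. -/
theorem exists_ses {X Y Z : Scheme.{u}} (i : Y ⟶ X) [IsClosedImmersion i] (j : Z ⟶ Y)
    (hj : Mor2.IsRegularClosedImmersion j) :
    ∃ S : ShortComplex Z.Modules, S.ShortExact ∧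
      Nonempty (S.X₁ ≅ (Scheme.Modules.pullback j).obj (Omega.conormal i)) ∧
      Nonempty (S.X₂ ≅ Omega.conormal (j ≫ i)) ∧ Nonempty (S.X₃ ≅ Omega.conormal j) := by
  have := hj.1
  have h₁ : j ≫ i = (j ≫ i) ≫ 𝟙 X := (Category.comp_id _).symm
  have h₂ : 𝟙 Z ≫ j ≫ i = j ≫ i := Category.id_comp _
  have hφ₁ := K583.ConMap.isConormalMap h₁.symm
  have hφ₂ := K583.ConMap.isConormalMap h₂.symm
  have hk : RegImm.IsRegularImmersion RegImm.Kind.koszul j :=
    K473.RegImmCalc.isRegularImmersion_mono_kind (fun _ h ↦ K473.SeqFlat.koszul_of_regular h)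
      (regImm_of_regular hj)
  exact ⟨_, K559.ConSeq.shortExact hφ₁ hφ₂ hk, ⟨Iso.refl _⟩, ⟨Iso.refl _⟩, ⟨Iso.refl _⟩⟩

end K482.ConComp
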