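import Groth.Agent.S13305
import Groth.Agent.S2888
import Groth.Agent.S2889
import Groth.Agent.S4991
import Groth.Agent.Gaga.H364.ProjRed
import Groth.Agent.Vancyc.H878.RelOmega
import Groth.Agent.Dix.IdealModCartier
import Groth.Agent.Divis.RegStalk
import Groth.Agent.ArSurf.K482.ClosedPt
import Groth.Agent.ArSurf.K482.ConComp
import Groth.Agent.ArSurf.K482.DetPic
import Groth.Prelude.Def_ArSurf

/-!
# The adjunction isomorphism on a vertical prime divisor of an arithmetic surface (helper482)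
-/

set_option autoImplicit false
universe u
open CategoryTheory CategoryTheory.Limits AlgebraicGeometry
open Groth.Agent

namespace K482.Adj

open K482.DetPic K482.ClosedPt K482.ConComp
open Groth.Agent.Grpsch.PicGrp Groth.Agent.Divis

variable {X Z P : Scheme.{u}}

theorem near_of_regular (i : Z ⟶ X) (h : Mor2.IsRegularClosedImmersion i) (z : Z) :
    ∃ V : X.Opens, i z ∈ V ∧ Mor2.IsRegularClosedImmersion (i ∣_ V) := by
  have := h.1
  exact (RegStalk.exists_isRegularClosedImmersion_iff i z).2 (((RegImm.isRegularClosedImmersion_iff i).1 h).2 z)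

theorem regular_of_near (i : Z ⟶ X) [IsClosedImmersion i]
    (h : ∀ z : Z, ∃ V : X.Opens, i z ∈ V ∧ Mor2.IsRegularClosedImmersion (i ∣_ V)) :
    Mor2.IsRegularClosedImmersion i :=
  (RegImm.isRegularClosedImmersion_iff i).2 ⟨inferInstance,
    fun z => (RegStalk.exists_isRegularClosedImmersion_iff i z).1 (h z)⟩

/-- A closed immersion between regular schemes is regular. -/
theorem regular_of_stalks [IsLocallyNoetherian P] (j : X ⟶ P) [IsClosedImmersion j]
    (hX : ∀ x : X, IsRegularLocalRing (X.presheaf.stalk x))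
    (hP : ∀ p : P, IsRegularLocalRing (P.presheaf.stalk p)) : Mor2.IsRegularClosedImmersion j :=
  regular_of_near j fun x => by
    have := hX x
    exact (S2889.result j x).2 (hP (j x))

/-- Composition and cancellation for closed immersions into regular schemes. -/
theorem regular_comp_iff [IsLocallyNoetherian P] (j : X ⟶ P) [IsClosedImmersion j] (i : Z ⟶ X)
    [IsClosedImmersion i] (hX : ∀ x : X, IsRegularLocalRing (X.presheaf.stalk x))
    (hP : ∀ p : P, IsRegularLocalRing (P.presheaf.stalk p)) :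
    Mor2.IsRegularClosedImmersion (i ≫ j) ↔ Mor2.IsRegularClosedImmersion i := by
  constructor
  · intro h
    refine regular_of_near i fun z => ?_
    have := hX (i z)
    have := hP (j (i z))
    exact (S2888.result j i z).1 (near_of_regular _ h z)
  · intro h
    refine regular_of_near (i ≫ j) fun z => ?_
    have := hX (i z)
    have := hP (j (i z))
    exact (S2888.result j i z).2 (near_of_regular _ h z)

theorem isFinLocFree_conormal (i : Z ⟶ X) (h : Mor2.IsRegularClosedImmersion i) :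
    FlatMod.IsFinLocFree (Omega.conormal i) := by
  have := h.1
  intro x
  obtain ⟨c, hx, -⟩ := Sga67.KosImm.exists_chart h x ⊤ trivial
  exact ⟨c.V, _, hx, Groth.Agent.Sga67.LocBasis.nonempty_restrict_iso_iff.mpr
    ⟨_, Sga67.KosConormal.isLocBasis_fN c⟩⟩

theorem exists_rank [ConnectedSpace Z] (i : Z ⟶ X) (h : Mor2.IsRegularClosedImmersion i) :
    ∃ c, FlatMod.IsFinLocFreeOfRank c (Omega.conormal i) :=
  Krr.H495.Rank.exists_rank_of_connected (isFinLocFree_conormal i h)

/-- The stalks of a scheme smooth over a regular locally Noetherian scheme are regular. -/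
theorem regular_of_smooth [IsLocallyNoetherian X] (π : P ⟶ X) [Smooth π]
    (hX : ∀ x : X, IsRegularLocalRing (X.presheaf.stalk x)) (p : P) :
    IsRegularLocalRing (P.presheaf.stalk p) :=
  (S4991.result π p ⟨⊤, trivial, inferInstance⟩).2 (hX _)

/-- **The adjunction computation**, in the Picard group.

`E → X → P` and `E → Q → P` with `C_{X/P}`, `C_{E/X}`, `C_{Q/P}`, `C_{E/Q}` of constant ranks, `E → X` and `E → Q`
regular: `(det C_{X/P})|_E * det C_{E/X} = (det C_{Q/P})|_E * det C_{E/Q}`. -/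
theorem det_square {E Q : Scheme.{u}} (i : E ⟶ X) (j : X ⟶ P) [IsClosedImmersion j] (t : E ⟶ Q) (q : Q ⟶ P)
    [IsClosedImmersion q] (w : i ≫ j = t ≫ q) (hi : Mor2.IsRegularClosedImmersion i)
    (ht : Mor2.IsRegularClosedImmersion t) {a b c d : ℕ}
    (ha : FlatMod.IsFinLocFreeOfRank a (Omega.conormal i)) (hb : FlatMod.IsFinLocFreeOfRank b (Omega.conormal j))
    (hc : FlatMod.IsFinLocFreeOfRank c (Omega.conormal t)) (hd : FlatMod.IsFinLocFreeOfRank d (Omega.conormal q)) :
    pull i (det hb) * det ha = pull t (det hd) * det hc := by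
  obtain ⟨S, hS, ⟨e₁⟩, ⟨e₂⟩, ⟨e₃⟩⟩ := exists_ses j i hi
  obtain ⟨S', hS', ⟨e₁'⟩, ⟨e₂'⟩, ⟨e₃'⟩⟩ := exists_ses q t ht
  have p₁ := Krr.H482.PullLambda.isFinLocFreeOfRank_pullback i hb
  have p₁' := Krr.H482.PullLambda.isFinLocFreeOfRank_pullback t hd
  have h₁ := Krr.H495.Rank.rank_iso e₁.symm p₁
  have h₃ := Krr.H495.Rank.rank_iso e₃.symm ha
  have h₁' := Krr.H495.Rank.rank_iso e₁'.symm p₁'
  have h₃' := Krr.H495.Rank.rank_iso e₃'.symm hc
  have h₂ := Krr.H495.Rank.rank_shortExact hS h₁ h₃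
  have h₂' := Krr.H495.Rank.rank_shortExact hS' h₁' h₃'
  have d1 := det_ses hS h₁ h₂ h₃
  have d2 := det_ses hS' h₁' h₂' h₃'
  rw [det_congr h₁ p₁ ⟨e₁⟩, det_pull i hb, det_congr h₃ ha ⟨e₃⟩] at d1
  rw [det_congr h₁' p₁' ⟨e₁'⟩, det_pull t hd, det_congr h₃' hc ⟨e₃'⟩] at d2
  rw [← d1, ← d2]
  refine det_congr h₂ h₂' ⟨e₂ ≪≫ eqToIso ?_ ≪≫ e₂'.symm⟩
  rw [w]

end K482.Adj
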