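import Groth.Agent.ArSurf.K482.Adj
import Groth.Agent.ArSurf.K482.CanonVia
import Groth.Agent.Dix.ProjProper

/-!
# The adjunction isomorphism on a vertical prime divisor of an arithmetic surface (helper482)
-/

set_option autoImplicit false
universe u
open CategoryTheory CategoryTheory.Limits AlgebraicGeometry
open Groth.Agent

namespace K482.AdjMain

open K482.DetPic K482.ClosedPt K482.ConComp K482.CanonVia K482.Adj
open Groth.Agent.Grpsch.PicGrp Groth.Agent.Divis

variable (R : Type u) [CommRing R] [IsDomain R] [IsDiscreteValuationRing R]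

/-- An arithmetic surface is regularly embedded in a smooth proper scheme. -/
theorem exists_embedding (X : Over (Spec (CommRingCat.of R))) (hX : ArSurf.IsArithSurface R X) :
    ∃ (N c : ℕ) (P : Scheme.{u}) (π : P ⟶ Spec (CommRingCat.of R)) (j : X.left ⟶ P),
      IsProper π ∧ SmoothOfRelativeDimension N π ∧ IsClosedImmersion j ∧ j ≫ π = X.hom ∧
      Mor2.IsRegularClosedImmersion j ∧ FlatMod.IsFinLocFreeOfRank c (Omega.conormal j) := by
  obtain ⟨hreg, hint, hdim, hflat, N, j, hj, hw⟩ := hX
  have hsm : SmoothOfRelativeDimension N (CohB1.ProjSpaceOver.toBase N (Spec (CommRingCat.of R))) := inferInstance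
  have hsm' : Smooth (CohB1.ProjSpaceOver.toBase N (Spec (CommRingCat.of R))) :=
    SmoothOfRelativeDimension.smooth N _
  have hpr : IsProper (CohB1.ProjSpaceOver.toBase N (Spec (CommRingCat.of R))) :=
    Dix.ProjProper.isProper_toBase N _
  have hN : IsLocallyNoetherian (CohB1.ProjSpaceOver N (Spec (CommRingCat.of R))) :=
    LocallyOfFiniteType.isLocallyNoetherian (CohB1.ProjSpaceOver.toBase N (Spec (CommRingCat.of R)))
  have hjr : Mor2.IsRegularClosedImmersion j := regular_of_stalks j hreg (regular_of_smooth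
    (CohB1.ProjSpaceOver.toBase N (Spec (CommRingCat.of R))) (regular_stalk R))
  obtain ⟨c, hc⟩ := exists_rank j hjr
  exact ⟨N, c, _, CohB1.ProjSpaceOver.toBase N (Spec (CommRingCat.of R)), j, hpr, hsm, hj, hw, hjr, hc⟩

/-- **Adjunction**: through a suitable factorisation `E → P → Spec k`, `(L ⊗ ω)|_E` is a canonical sheaf. -/
theorem main (X : Over (Spec (CommRingCat.of R))) (hX : ArSurf.IsArithSurface R X)
    (E : ArSurf.VertComp R X) {L : X.left.Modules} (hL : ClSub.IsInverseOf L (ClSub.idealMod E.ι.ker))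
    {ω : X.left.Modules} (hω : Canon.IsCanonical X.hom ω) :
    ∃ (N : ℕ) (P : Scheme.{u}) (π : P ⟶ Spec (CommRingCat.of (IsLocalRing.ResidueField R)))
      (t : E.curve.left ⟶ P), IsProper π ∧ SmoothOfRelativeDimension N π ∧ t ≫ π = E.curve.hom ∧
      Mor2.IsRegularClosedImmersion t ∧ ∀ m, FlatMod.IsFinLocFreeOfRank m (Omega.conormal t) →
        Canon.IsCanonicalVia t π m N ((Scheme.Modules.pullback E.ι).obj (CohB1.tensorMod L ω)) := by
  obtain ⟨N, c, P, πP, j, hpr, hsm, hj, hw, hjr, hc⟩ := exists_embedding R X hX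
  have hXreg := hX.1
  have hint := hX.2.1
  have hsm' : Smooth πP := SmoothOfRelativeDimension.smooth N _
  have hNP : IsLocallyNoetherian P := LocallyOfFiniteType.isLocallyNoetherian πP
  have hPreg := regular_of_smooth πP (regular_stalk R)
  let Q := pullback πP (κ R)
  let q : Q ⟶ P := pullback.fst πP (κ R)
  let πQ : Q ⟶ Spec (CommRingCat.of (IsLocalRing.ResidueField R)) := pullback.snd πP (κ R)
  have H : IsPullback q πQ πP (κ R) := IsPullback.of_hasPullback _ _
  have hsmQ : SmoothOfRelativeDimension N πQ :=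
    (smoothOfRelativeDimension_isStableUnderBaseChange N).of_isPullback H hsm
  have hsmQ' : Smooth πQ := SmoothOfRelativeDimension.smooth N _
  have hqcl : IsClosedImmersion q := MorphismProperty.of_isPullback H.flip inferInstance
  have hprQ : IsProper πQ := MorphismProperty.of_isPullback H hpr
  obtain ⟨hqr, hq1⟩ := Krr.H501.RegLen.isRegular_and_rank_of_isPullback H (regular_κ R).1 (regular_κ R).2
  have hwE : (E.ι ≫ j) ≫ πP = E.curve.hom ≫ κ R := by rw [Category.assoc, hw]; exact E.w
  let t : E.curve.left ⟶ Q := pullback.lift (E.ι ≫ j) E.curve.hom hwE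
  have htq : E.ι ≫ j = t ≫ q := (pullback.lift_fst _ _ _).symm
  have htπ : t ≫ πQ = E.curve.hom := pullback.lift_snd _ _ _
  have htcl : IsClosedImmersion t := by
    have : IsClosedImmersion (t ≫ q) := by rw [← htq]; infer_instance
    exact IsClosedImmersion.of_comp t q
  have hQN : IsLocallyNoetherian Q := LocallyOfFiniteType.isLocallyNoetherian πQ
  have hQreg : ∀ y : Q, IsRegularLocalRing (Q.presheaf.stalk y) :=
    regular_of_smooth πQ (regular_stalk (IsLocalRing.ResidueField R))
  have hEff := Dix.IdealModCartier.isEffCartierIdeal_of_isInverseOf hL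
  obtain ⟨hEr, hE1⟩ := isRegular_and_rank_of_isEff E.ι hEff
  have htr : Mor2.IsRegularClosedImmersion t := by
    rw [← regular_comp_iff q t hQreg hPreg, ← htq, regular_comp_iff j E.ι hXreg hPreg]
    exact hEr
  refine ⟨N, Q, πQ, t, hprQ, hsmQ, htπ, htr, fun m hm => ?_⟩
  have hsq := det_square E.ι j t q htq hEr htr hE1 hc hm hq1
  -- the conormal sheaf of `Q` in `P` is trivial
  have hqtriv : det hq1 = 1 := by
    have h1 : PicF.IsInvertible (Omega.conormal q) := isInvertible_of_rank_one hq1
    rw [det_rank_one hq1 h1, mk_eq_one_iff]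
    have hiso : Nonempty ((Scheme.Modules.pullback πQ).obj (Omega.conormal (κ R)) ≅ Omega.conormal q) := by
      have := Grpsch.ConormalIso.isIso_conormalMap_of_flat H
      exact ⟨asIso (Grpsch.ConormalIso.conormalMap H.w)⟩
    obtain ⟨e⟩ := hiso
    obtain ⟨e'⟩ := conormal_κ R
    have h2 : pull πQ (1 : Pic _) = 1 := map_one _
    rw [one_def, pull_mk, mk_eq_one_iff] at h2
    obtain ⟨e''⟩ := h2
    exact ⟨e.symm ≪≫ (Scheme.Modules.pullback πQ).mapIso e' ≪≫ e''⟩
  -- canonical sheaf of `X`
  have hft : LocallyOfFiniteType X.hom := by rw [← hw]; infer_instance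
  have hqc : QuasiCompact X.hom := by rw [← hw]; infer_instance
  have hΩP := Dual.H339.OmegaRank.isFinLocFreeOfRank_omega N πP
  have hΩQ := Dual.H339.OmegaRank.isFinLocFreeOfRank_omega N πQ
  have hvia : Canon.IsCanonicalVia j πP c N ω :=
    via_of_canonical j πP hw (regImm_of_rank hjr hc) hsm hω
  have hωinv := isInvertible_canonical hω
  have hLinv := (Dix.IdealModCartier.isInvertible_of_isInverseOf hL).1
  have hIinv := (Dix.IdealModCartier.isInvertible_of_isInverseOf hL).2
  have e1 := mk_via hc hΩP hvia hωinv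
  -- `det Ω_Q = q^* det Ω_P`
  have e2 : det hΩQ = pull q (det hΩP) := by
    rw [← det_pull q hΩP (Krr.H482.PullLambda.isFinLocFreeOfRank_pullback q hΩP)]
    exact det_congr _ _ ⟨(Vancyc.H878.RelOmega.omegaBC H).symm⟩
  -- `C_{E/X} = I(E)|_E`
  have e3 : det hE1 = pull E.ι (mk _ hIinv) := by
    rw [pull_mk]
    exact det_rank_one hE1 _
  have e4 : mk L hLinv * mk _ hIinv = 1 := by
    rw [mk_mul_mk, mk_eq_one_iff]
    exact hL
  refine via_of_mk hm hΩQ (Fdesc.LocGen.isInvertible_pullback E.ι (Fdesc.LocGen.isInvertible_tensorMod hLinv hωinv)) ?_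
  rw [← pull_mk E.ι (Fdesc.LocGen.isInvertible_tensorMod hLinv hωinv), ← mk_mul_mk hLinv hωinv, e2, ← pull_comp, ← htq, pull_comp, ← e1]
  rw [hqtriv, map_one, one_mul] at hsq
  rw [← hsq, e3, map_mul, map_mul]
  have e5 : pull E.ι (mk L hLinv) * pull E.ι (mk _ hIinv) = 1 := by rw [← map_mul, e4, map_one]
  calc pull E.ι (mk L hLinv) * pull E.ι (mk ω hωinv) * (pull E.ι (det hc) * pull E.ι (mk _ hIinv))
      = (pull E.ι (mk L hLinv) * pull E.ι (mk _ hIinv)) * (pull E.ι (mk ω hωinv) * pull E.ι (det hc)) := by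
        rw [mul_comm (pull E.ι (det hc)), mul_mul_mul_comm]
    _ = _ := by rw [e5, one_mul]

/-- `(L ⊗ ω)|_E` is a canonical sheaf of `E` over the residue field. -/
theorem isCanonical (X : Over (Spec (CommRingCat.of R))) (hX : ArSurf.IsArithSurface R X)
    (E : ArSurf.VertComp R X) {L : X.left.Modules} (hL : ClSub.IsInverseOf L (ClSub.idealMod E.ι.ker))
    {ω : X.left.Modules} (hω : Canon.IsCanonical X.hom ω) :
    Canon.IsCanonical E.curve.hom ((Scheme.Modules.pullback E.ι).obj (CohB1.tensorMod L ω)) := by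
  obtain ⟨N, P, π, t, hpr, hsm, hw, hr, h⟩ := main R X hX E hL hω
  have := hr.1
  have hsm' : Smooth π := SmoothOfRelativeDimension.smooth N _
  have hft : LocallyOfFiniteType E.curve.hom := by rw [← hw]; infer_instance
  have hqc : QuasiCompact E.curve.hom := by rw [← hw]; infer_instance
  obtain ⟨m, hm⟩ := exists_rank t hr
  exact canonical_of_via t π hw (regImm_of_rank hr hm) hsm (h m hm)

end K482.AdjMain
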