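import Groth.Agent.CurvesB.CMDimOne
import Groth.Agent.CurvesB.DimPts
import Groth.Agent.Ega4A.RegCM
import Mathlib.AlgebraicGeometry.Noetherian
import Mathlib.AlgebraicGeometry.FunctionField

/-!
# An integral locally Noetherian scheme of dimension at most one is Cohen-Macaulay (helper482)
-/

set_option autoImplicit false
universe u
open CategoryTheory CategoryTheory.Limits AlgebraicGeometry

namespace K482.CurveCM

open Groth.Agent

theorem cm_of_domain (A : Type u) [CommRing A] [IsDomain A] [IsLocalRing A] [IsNoetherianRing A]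
    (h : ringKrullDim A ≤ 1) : LocCoh.IsCohenMacaulayLocalRing A := by
  by_cases h0 : IsLocalRing.maximalIdeal A = ⊥
  · have hf : IsField A := IsLocalRing.isField_iff_maximalIdeal_eq.mpr h0
    let _ : Field A := hf.toField
    have : IsRegularLocalRing A := inferInstance
    exact Ega4A.RegCM.isCohenMacaulayLocalRing_of_isRegularLocalRing A
  · obtain ⟨m, hm, hm0⟩ := Submodule.exists_mem_ne_zero_of_ne_bot h0
    exact CurvesB.CMDimOne.of_dim_one A h fun a ha => (mul_eq_zero.mp (ha m hm)).resolve_left hm0

theorem stalk_cm (X : Scheme.{u}) [IsIntegral X] [IsLocallyNoetherian X] (hd : topologicalKrullDim X ≤ 1)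
    (x : X) : LocCoh.IsCohenMacaulayLocalRing (X.presheaf.stalk x) :=
  cm_of_domain _ ((CurvesB.DimPts.ringKrullDim_stalk_le x).trans hd)

theorem equidim (X : Scheme.{u}) [IrreducibleSpace X] {d : WithBot ℕ∞} (hd : topologicalKrullDim X = d) :
    ∀ Z ∈ irreducibleComponents (X : Type u), topologicalKrullDim Z = d := by
  intro Z hZ
  rw [irreducibleComponents_eq_singleton, Set.mem_singleton_iff] at hZ
  subst hZ
  rw [← hd]
  exact (Homeomorph.Set.univ X).isHomeomorph.topologicalKrullDim_eq

end K482.CurveCM
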