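import Groth.Agent.S1656
import Groth.Agent.S3635
import Groth.Agent.S3637
import Groth.Agent.Dual.H328.WUniv
import Groth.Agent.Dual.H339.OmegaRank
import Groth.Agent.ArSurf.K482.CurveCM
import Groth.Agent.CurvesB.CurveRR
import Groth.Prelude.Def_Canon

/-!
# Duality for the Euler characteristic of an integral curve regularly embedded in a smooth proper scheme (helper482)
-/

set_option autoImplicit false
universe u
open CategoryTheory CategoryTheory.Limits AlgebraicGeometry
attribute [local instance] HasDerivedCategory.standard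

namespace K482.CurveDual

open Groth.Agent
open Groth.Agent.Ega1.ADualUniv Groth.Agent.Ega1.ADualOpen Groth.Agent.LoccohB.AdStruct

theorem propS3635 : Dual.H328.WUniv.PropS3635.{u} :=
  fun S X _ d f _ _ _ hf a adj O hO L hL => S3635.result S X d f hf a adj O hO L hL

theorem exists_data (k : Type u) [Field k] (E : Scheme.{u}) [E.Over (Spec (CommRingCat.of k))]
    [IsProper (E ↘ (Spec (CommRingCat.of k)))] [IsIntegral E] (hdim : topologicalKrullDim E = 1)
    {P : Scheme.{u}} (π : P ⟶ Spec (CommRingCat.of k)) [IsProper π] (N : ℕ) [SmoothOfRelativeDimension N π]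
    (t : E ⟶ P) (ht : Mor2.IsRegularClosedImmersion t) (hw : t ≫ π = E ↘ (Spec (CommRingCat.of k))) :
    ∃ (m : ℕ) (w : E.Modules), m + 1 = N ∧ FlatMod.IsFinLocFreeOfRank m (Omega.conormal t) ∧
      Curv2.euler k E (Coh.structureModule E) = - Curv2.euler k E w ∧ Canon.IsCanonicalVia t π m N w := by
  have := ht.1
  have hsm : Smooth π := SmoothOfRelativeDimension.smooth N π
  let f := E ↘ (Spec (CommRingCat.of k))
  have hNE : IsNoetherian E := CurvesB.CurveRR.isNoetherian_of_proper k E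
  have hNP : IsNoetherian P := isNoetherian_of_finiteType π
  have := Dcoh.DerSch.hasRpush f
  have := Dcoh.DerSch.hasRpush π
  have := Dcoh.DerSch.hasRpush t
  have := Dcoh.DerSch.hasRpush (t ≫ π)
  have hf : DCoh.RpushPreservesQCoh f := fun N hN => S0998.result f N hN
  have hsh : DCoh.HasShriek f hf := S1766.result _ _ f hf
  let OY : DCoh.DQCoh (Spec (CommRingCat.of k)) :=
    ⟨DCoh.inD _ (Coh.structureModule _), PerfA.QCohD.isQCohD_inD _ (CurvesC.UnitCoh.isQCoh_unit _)⟩
  have hOY : Nonempty (OY.obj ≅ DCoh.inD (Spec (CommRingCat.of k)) (Coh.structureModule (Spec (CommRingCat.of k)))) :=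
    ⟨Iso.refl _⟩
  let F : DCoh.D E := ((DCoh.shriek f hf).obj OY).obj
  have hU : Univ f OY.obj F := univ_of_adj (h := hf) (DCoh.shriekAdj f hf) OY
  obtain ⟨D, hD⟩ := Dual.H366.ExtQCoh.exists_isExtPow N (Dual.H328.ClopenGlue.isQCoh_omega π)
  have hDinv : PicF.IsInvertible D := Dual.H328.WUniv.isInvertible_extPow
    (Dual.H339.OmegaRank.isFinLocFreeOfRank_omega N π) hD
  have h1 := Dual.H328.WUniv.univ_smooth_proper propS3635 π N OY.property ⟨Iso.refl _⟩ D hD
  obtain ⟨G, hG⟩ := exists_univ t _ h1.qcoh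
  have h2 := Univ.comp' t π h1 hG
  have h3 : Univ f OY.obj G := Univ.of_eq hw h2
  obtain ⟨e⟩ := h3.unique hU
  have hF : Univ t _ F := hG.of_iso_left e hU.qcoh
  have hCM := CurveCM.stalk_cm E hdim.le
  have hequi := CurveCM.equidim E hdim
  have hr : ∀ i : ℤ, i ≠ -((1 : ℕ) : ℤ) → IsZero (DCoh.HD F i) :=
    (S3637.result k E f hCM 1 (fun Z hZ => by simpa using hequi Z hZ) hf _ (DCoh.shriekAdj f hf) OY hOY).1
  obtain ⟨x⟩ : Nonempty E := inferInstance
  have := Dcoh.DerPull.hasLpull t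
  have hlen : ∃ m : ℕ, m + 1 = N := by
    obtain ⟨c, hx, -⟩ := Sga67.KosImm.exists_chart ht x ⊤ trivial
    exact ⟨_, Dual.H328.WUniv.length_add t N hDinv 1 hF hr c x hx⟩
  obtain ⟨m, hm⟩ := hlen
  have hN := Dual.H328.WUniv.isFinLocFreeOfRank_conormal t N hDinv ht 1 m hF hr hm
  obtain ⟨LC, hLC⟩ := Dual.H366.ExtQCoh.exists_isExtPow m (Ega2.QCohLocal.isQCoh_of_isFinLocFree
    (Ega2.QCohLocal.isFinLocFree_of_rank hN))
  have hten := Dual.H328.WUniv.nonempty_tensor_iso t N hDinv ht 1 m hm hN hLC hF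
  refine ⟨m, DCoh.HD F (-((1 : ℕ) : ℤ)), hm, hN, ?_, LC, D, hLC, hD, hten⟩
  exact S1656.result k E hCM hequi hf OY hOY

end K482.CurveDual
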