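import Groth.Agent.ArSurf.K482.PicTriv
import Groth.Agent.ArSurf.K482.Triv
import Groth.Agent.ArSurf.K482.CurveVan
import Groth.Agent.Dix.InterSurf
import Groth.Agent.S1521

/-!
# `H^1` and `Pic^0` of vertical divisors with negative `(Z + K) · Γ_i` at each step (helper482)

* `P Γ D`: every invertible module of degree `0` on the closed subscheme of `D` is trivial with vanishing `H^1`;
* `step`: from `D` to `D * I(Γ_i)` if `-2 χ(O_{Γ_i}) < deg (O(-D)|Γ_i)`;
* `main`: the induction.
-/

set_option autoImplicit false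
universe u

open CategoryTheory CategoryTheory.Limits AlgebraicGeometry Opposite TopologicalSpace

namespace K482.PicMain

open Groth.Agent K482.PicStep K482.PicStepH K482.PicTriv K482.Triv
open Groth.Agent.Dix.InterSurf Groth.Agent.Dix.InterNum Groth.Agent.Dix.IdealModCartier

variable {R : Type u} [CommRing R] [IsDomain R] [IsDiscreteValuationRing R]
variable {X : Over (Spec (CommRingCat.of R))}

/-- Invertible modules of degree `0` on the closed subscheme of `D` are trivial with vanishing `H^1`. -/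
def P {r : ℕ} (Γ : Fin r → ArSurf.VertComp R X) (D : X.left.IdealSheafData) : Prop :=
  ∀ N : D.subscheme.Modules, PicF.IsInvertible N →
    (∀ (i : Fin r) (g : (Γ i).curve.left ⟶ D.subscheme), g ≫ D.subschemeι = (Γ i).ι →
      ArSurf.curveDeg (IsLocalRing.ResidueField R) (Γ i).curve.left ((Scheme.Modules.pullback g).obj N) = 0) →
    Subsingleton (Coh.HH D.subscheme N 1) ∧ Nonempty (N ≅ Coh.structureModule D.subscheme)

theorem P_one {r : ℕ} (Γ : Fin r → ArSurf.VertComp R X) : P Γ (1 : X.left.IdealSheafData) := by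
  intro N _ _
  have : IsEmpty (1 : X.left.IdealSheafData).subscheme := by
    rw [Scheme.IdealSheafData.one_eq_top]
    infer_instance
  exact ⟨subsingleton_HH_of_isZero (isZero_of_isEmpty N) 1, ⟨(isZero_of_isEmpty N).iso (isZero_of_isEmpty _)⟩⟩

theorem curveDeg_congr {Y : Scheme.{u}} {k : Type u} [Field k] [Y.Over (Spec (CommRingCat.of k))]
    {M N : Y.Modules} (e : M ≅ N) : ArSurf.curveDeg k Y M = ArSurf.curveDeg k Y N := by
  unfold ArSurf.curveDeg
  rw [Fga.EulerIso.eulerCharLE_congr k e 1]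

/-- Nonzero sections of an invertible module of degree `0` on an integral proper curve are isomorphisms. -/
theorem isIso_of_deg_zero {k : Type u} [Field k] {Y : Scheme.{u}} [Y.Over (Spec (CommRingCat.of k))] [IsIntegral Y]
    [IsProper (Y ↘ (Spec (CommRingCat.of k)))] (hdim : topologicalKrullDim Y = 1) {L : Y.Modules}
    (hL : PicF.IsInvertible L) (hdeg : ArSurf.curveDeg k Y L = 0) (s : Coh.structureModule Y ⟶ L) (hs : s ≠ 0) :
    IsIso s := by
  refine (Groth.Agent.S1521.result k Y hdim _ L Fdesc.LocGen.isInvertible_structureModule hL s hs).2 ?_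
  rw [deg_unit, ← curveDeg_eq k Y hdim, hdeg]

/-- On an integral proper curve with `χ(O) > 0`, invertible modules of degree `0` are trivial. -/
theorem nonempty_of_deg_zero {k : Type u} [Field k] {Y : Scheme.{u}} [Y.Over (Spec (CommRingCat.of k))] [IsIntegral Y]
    [IsProper (Y ↘ (Spec (CommRingCat.of k)))] (hdim : topologicalKrullDim Y = 1) {L : Y.Modules}
    (hL : PicF.IsInvertible L) (hdeg : ArSurf.curveDeg k Y L = 0)
    (hχ : 0 < FGA.eulerCharLE k Y (Coh.structureModule Y) 1) : Nonempty (L ≅ Coh.structureModule Y) := by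
  have h1 : 0 < Module.finrank k (Coh.HH Y L 0) := by
    unfold ArSurf.curveDeg at hdeg
    rw [CurveVan.eulerCharLE_one k Y L, CurveVan.eulerCharLE_one k Y (Coh.structureModule Y)] at hdeg
    rw [CurveVan.eulerCharLE_one] at hχ
    omega
  have h2 : Nontrivial (Coh.HH Y L 0) := Module.nontrivial_of_finrank_pos h1
  obtain ⟨s, hs⟩ : ∃ s : Coh.structureModule Y ⟶ L, s ≠ 0 := by
    by_contra hcon
    push Not at hcon
    have h3 : Subsingleton Γ(L, ⊤) := by
      refine subsingleton_of_forall_eq 0 fun m => ?_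
      have h4 := hcon (Fdesc.LocGen.homOf m)
      have h5 := Fdesc.LocGen.sec_homOf m ⊤
      rw [h4, Fdesc.LocGen.res_refl] at h5
      exact h5.symm
    have h6 : Subsingleton (Coh.HH Y L 0) := (CurvesB.HZero.equivAdd L).toEquiv.subsingleton
    exact not_subsingleton _ h6
  have := isIso_of_deg_zero hdim hL hdeg s hs
  exact ⟨(asIso s).symm⟩

theorem isInvertible_of_iso {Y : Scheme.{u}} {L M : Y.Modules} (e : L ≅ M) (hL : PicF.IsInvertible L) :
    PicF.IsInvertible M := by
  intro x
  obtain ⟨U, hU, ⟨f⟩⟩ := hL x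
  exact ⟨U, hU, ⟨((Scheme.Modules.restrictFunctor U.ι).mapIso e).symm ≪≫ f⟩⟩

section Step

variable (hX : ArSurf.IsArithSurface R X) {r : ℕ} (Γ : Fin r → ArSurf.VertComp R X) (i : Fin r)
  {D : X.left.IdealSheafData} (hD : BlowUp.IsEffCartierIdeal D) (hI : BlowUp.IsEffCartierIdeal (Γ i).ι.ker)

include hX hD hI in
theorem step {J : X.left.IdealSheafData} (hJ : J = D * (Γ i).ι.ker)
    (hnum : -2 * FGA.eulerCharLE (IsLocalRing.ResidueField R) (Γ i).curve.left
      (Coh.structureModule (Γ i).curve.left) 1 < dd (Γ i) D) (hP : P Γ D) : P Γ J := by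
  intro N hN hdeg
  have hprop := isProper_curve hX (Γ i)
  have hJD : J ≤ D := by
    rw [hJ]
    exact mul_le_of_le_one_right' (by rw [Scheme.IdealSheafData.one_eq_top]; exact le_top)
  have hJI : J ≤ (Γ i).ι.ker := by
    rw [hJ]
    exact mul_le_of_le_one_left' (by rw [Scheme.IdealSheafData.one_eq_top]; exact le_top)
  obtain ⟨z, hz⟩ : ∃ z : D.subscheme ⟶ J.subscheme, z ≫ J.subschemeι = D.subschemeι :=
    ⟨Scheme.IdealSheafData.inclusion hJD, Scheme.IdealSheafData.inclusion_subschemeι hJD⟩
  obtain ⟨γ, hγ⟩ : ∃ γ : (Γ i).curve.left ⟶ J.subscheme, γ ≫ J.subschemeι = (Γ i).ι :=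
    ⟨IsClosedImmersion.lift J.subschemeι (Γ i).ι (by rwa [J.ker_subschemeι]), IsClosedImmersion.lift_fac _ _ _⟩
  have hzc : IsClosedImmersion z := by
    have : IsClosedImmersion (z ≫ J.subschemeι) := by rw [hz]; infer_instance
    exact IsClosedImmersion.of_comp z J.subschemeι
  have hγc : IsClosedImmersion γ := by
    have : IsClosedImmersion (γ ≫ J.subschemeι) := by rw [hγ]; infer_instance
    exact IsClosedImmersion.of_comp γ J.subschemeι
  have hkz : (z ≫ J.subschemeι).ker = D := by rw [hz, D.ker_subschemeι]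
  have hkγ : (γ ≫ J.subschemeι).ker = (Γ i).ι.ker := by rw [hγ]
  have hJ1 : J = (z ≫ J.subschemeι).ker * (γ ≫ J.subschemeι).ker := by rw [hkz, hkγ]; exact hJ
  have hJ2 : J = (γ ≫ J.subschemeι).ker * (z ≫ J.subschemeι).ker := by rw [mul_comm]; exact hJ1
  have hk := kills_K J z γ hJ1
  have eK := nonempty_pull_K J z γ hJ1
  rw [hkz, hγ] at eK
  obtain ⟨eK⟩ := eK
  have hinv1 := Fdesc.LocGen.isInvertible_pullback γ hN
  have hinv2 : PicF.IsInvertible ((Scheme.Modules.pullback γ).obj (K z)) :=
    isInvertible_of_iso eK.symm (Fdesc.LocGen.isInvertible_pullback (Γ i).ι (isInvertible_idealMod hD))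
  have hM : ArSurf.curveDeg (IsLocalRing.ResidueField R) (Γ i).curve.left
      (CohB1.tensorMod ((Scheme.Modules.pullback γ).obj N) ((Scheme.Modules.pullback γ).obj (K z))) =
      dd (Γ i) D := by
    rw [curveDeg_eq _ _ (Γ i).dim_eq, deg_tensor _ _ (Γ i).dim_eq hinv1 hinv2, ← curveDeg_eq _ _ (Γ i).dim_eq,
      ← curveDeg_eq _ _ (Γ i).dim_eq, hdeg i γ hγ, zero_add, curveDeg_congr eK]
    rfl
  have hvan : Subsingleton (Coh.HH (Γ i).curve.left
      (CohB1.tensorMod ((Scheme.Modules.pullback γ).obj N) ((Scheme.Modules.pullback γ).obj (K z))) 1) :=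
    CurveVan.H1_vanish _ _ (Γ i).dim_eq _ (Fdesc.LocGen.isInvertible_tensorMod hinv1 hinv2)
      (by rw [hM]; exact hnum)
  obtain ⟨hW, hWt⟩ := hP ((Scheme.Modules.pullback z).obj N) (Fdesc.LocGen.isInvertible_pullback z hN) (by
    intro j g hg
    have e : (Scheme.Modules.pullback g).obj ((Scheme.Modules.pullback z).obj N) ≅
      (Scheme.Modules.pullback (g ≫ z)).obj N := (Scheme.Modules.pullbackComp g z).app N
    rw [curveDeg_congr e]
    exact hdeg j (g ≫ z) (by rw [Category.assoc, hz, hg]))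
  refine ⟨H1_of z γ hk hN hvan hW, ?_⟩
  have hinj : Function.Injective J.subschemeι := J.subschemeι.isClosedEmbedding.injective
  have hrange : ∀ y : (Γ i).curve.left, (Γ i).ι y ∈ (Γ i).ι.ker.support := fun y =>
    (Γ i).ι.range_subset_ker_support ⟨y, rfl⟩
  have hrange' : ∀ x ∈ (Γ i).ι.ker.support, ∃ y : (Γ i).curve.left, (Γ i).ι y = x := by
    intro x hx
    rw [← SetLike.mem_coe, Scheme.Hom.support_ker, (Γ i).ι.isClosedEmbedding.isClosed_range.closure_eq] at hx
    exact hx
  have hsurj : ∀ x : J.subscheme, x ∈ Set.range z ∨ x ∈ Set.range γ := by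
    intro x
    have hx : J.subschemeι x ∈ (J.support : Set X.left) := by
      rw [← J.range_subschemeι]
      exact ⟨x, rfl⟩
    obtain ⟨t, ht⟩ : ∃ t, t = J.subschemeι x := ⟨_, rfl⟩
    rw [← ht, hJ, Scheme.IdealSheafData.support_mul] at hx
    rcases hx with h | h
    · left
      change t ∈ (D.support : Set X.left) at h
      rw [← D.range_subschemeι] at h
      obtain ⟨p, hp⟩ := h
      refine ⟨p, hinj ?_⟩
      rw [← ht, ← hp, ← hz]
      rfl
    · right
      obtain ⟨p, hp⟩ := hrange' _ h
      refine ⟨p, hinj ?_⟩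
      rw [← ht, ← hp, ← hγ]
      rfl
  have hl := surjective_unit z γ hk hN hvan
  by_cases hmeet : ∃ (p : D.subscheme) (y : (Γ i).curve.left), z p = γ y
  · obtain ⟨p, y, hpy⟩ := hmeet
    exact nonempty_of_meet z γ hN hsurj hl hWt
      (fun s hs => isIso_of_deg_zero (Γ i).dim_eq hinv1 (hdeg i γ hγ) s hs) p y hpy
  · push Not at hmeet
    have hmeet' : ∀ (p : D.subscheme) (y : (Γ i).curve.left), D.subschemeι p ≠ (Γ i).ι y := by
      intro p y h
      refine hmeet p y (hinj ?_)
      rw [← hz, ← hγ] at h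
      exact h
    have hk' := kills_K J γ z hJ2
    have eK' := nonempty_pull_K J γ z hJ2
    rw [hkγ, hz] at eK'
    obtain ⟨eK'⟩ := eK'
    obtain ⟨e0⟩ := pullback_idealMod_trivial D.subschemeι hI (by
      intro p hp
      obtain ⟨y, hy⟩ := hrange' _ hp
      exact hmeet' p y hy.symm)
    have hvan' : Subsingleton (Coh.HH D.subscheme (CohB1.tensorMod ((Scheme.Modules.pullback z).obj N)
        ((Scheme.Modules.pullback z).obj (K γ))) 1) :=
      Dix.TwistClosed490.subsingleton_HH_of_iso
        (Ega2.Tens.mapTIso (Iso.refl _) (eK' ≪≫ e0) ≪≫ Ega2.Tens.runit _).symm 1 hW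
    have hl' := surjective_unit γ z hk' hN hvan'
    have hdd : dd (Γ i) D = 0 := by
      obtain ⟨e1⟩ := pullback_idealMod_trivial (Γ i).ι hD (by
        intro y hy
        rw [← SetLike.mem_coe, ← D.range_subschemeι] at hy
        obtain ⟨p, hp⟩ := hy
        exact hmeet' p y hp)
      change ArSurf.curveDeg _ _ _ = 0
      rw [curveDeg_congr e1]
      simp [ArSurf.curveDeg]
    rw [hdd] at hnum
    exact nonempty_of_disjoint z γ hN hsurj hmeet hl hl' hWt
      (nonempty_of_deg_zero (Γ i).dim_eq hinv1 (hdeg i γ hγ) (by linarith))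

end Step

/-- The induction. -/
theorem main (hX : ArSurf.IsArithSurface R X) {r : ℕ} (Γ : Fin r → ArSurf.VertComp R X)
    (L : Fin r → X.left.Modules) (hL : ∀ j, ClSub.IsInverseOf (L j) (ClSub.idealMod (Γ j).ι.ker))
    (ω : X.left.Modules)
    (hadj : ∀ i, ArSurf.inter R X (L i) (Γ i) + ArSurf.inter R X ω (Γ i) =
      -2 * FGA.eulerCharLE (IsLocalRing.ResidueField R) (Γ i).curve.left
        (Coh.structureModule (Γ i).curve.left) 1)
    (a : Fin r → ℕ)
    (hpa : ∀ a' : Fin r → ℕ, a' ≤ a → a' ≠ 0 →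
      ∑ i, (a' i : ℤ) * (∑ j, (a' j : ℤ) * ArSurf.inter R X (L j) (Γ i) + ArSurf.inter R X ω (Γ i)) < 0) :
    P Γ (∏ j, (Γ j).ι.ker ^ a j) := by
  classical
  have hI : ∀ j, BlowUp.IsEffCartierIdeal (Γ j).ι.ker := fun j => isEffCartierIdeal_of_isInverseOf (hL j)
  have hinter : ∀ i j, ArSurf.inter R X (L j) (Γ i) = - dd (Γ i) (Γ j).ι.ker := fun i j =>
    inter_inverse hX (hL j) (Γ i)
  have key : ∀ (n : ℕ) (b : Fin r → ℕ), b ≤ a → ∑ j, b j = n → P Γ (∏ j, (Γ j).ι.ker ^ b j) := by
    intro n
    induction n with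
    | zero =>
      intro b hb hn
      have hb0 : ∀ j, b j = 0 := fun j => by
        have := (Finset.sum_eq_zero_iff.1 hn) j (Finset.mem_univ j)
        exact this
      have h1 : ∏ j, (Γ j).ι.ker ^ b j = 1 := by
        refine Finset.prod_eq_one fun j _ => ?_
        rw [hb0 j, pow_zero]
      rw [h1]
      exact P_one Γ
    | succ n ih =>
      intro b hb hn
      have hb0 : b ≠ 0 := by
        rintro rfl
        simp at hn
      have h1 := hpa b hb hb0
      obtain ⟨i, -, hi⟩ := Finset.exists_lt_of_sum_lt (s := Finset.univ)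
        (f := fun i => (b i : ℤ) * (∑ j, (b j : ℤ) * ArSurf.inter R X (L j) (Γ i) + ArSurf.inter R X ω (Γ i)))
        (g := fun _ => (0 : ℤ)) (by simpa using h1)
      have hbi : 0 < b i := by
        rcases Nat.eq_zero_or_pos (b i) with h | h
        · simp [h] at hi
        · exact h
      have hneg : ∑ j, (b j : ℤ) * ArSurf.inter R X (L j) (Γ i) + ArSurf.inter R X ω (Γ i) < 0 := by
        have hbi' : (0 : ℤ) < b i := by exact_mod_cast hbi
        by_contra hcon
        push Not at hcon
        have := mul_nonneg hbi'.le hcon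
        exact absurd hi (not_lt.2 this)
      let c : Fin r → ℕ := b - Pi.single i 1
      have hcb : b = c + Pi.single i 1 := by
        funext j
        by_cases h : j = i
        · subst h
          simp only [c, Pi.add_apply, Pi.sub_apply, Pi.single_eq_same]
          omega
        · simp [c, h]
      have hca : c ≤ a := fun j => (by rw [hcb]; simp : c j ≤ b j).trans (hb j)
      have hcn : ∑ j, c j = n := by
        rw [hcb] at hn
        simp only [Pi.add_apply, Finset.sum_add_distrib, Finset.sum_pi_single', Finset.mem_univ, if_true] at hn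
        omega
      have hprod : ∏ j, (Γ j).ι.ker ^ b j = (∏ j, (Γ j).ι.ker ^ c j) * (Γ i).ι.ker := by
        rw [hcb]
        simp only [Pi.add_apply, pow_add, Finset.prod_mul_distrib]
        congr 1
        rw [Finset.prod_eq_single i]
        · simp
        · intro j _ hj
          simp [hj]
        · simp
      refine step hX Γ i (Dix.IdealQuot.isEff_prod _ hI Finset.univ c) (hI i) hprod ?_ (ih c hca hcn)
      rw [dd_prod hX (Γ i) _ hI]
      have h2 : ∑ j, (b j : ℤ) * ArSurf.inter R X (L j) (Γ i) =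
          ∑ j, (c j : ℤ) * ArSurf.inter R X (L j) (Γ i) + ArSurf.inter R X (L i) (Γ i) := by
        rw [hcb]
        simp only [Pi.add_apply, Nat.cast_add, add_mul, Finset.sum_add_distrib]
        congr 1
        rw [Finset.sum_eq_single i]
        · simp
        · intro j _ hj
          simp [hj]
        · simp
      have h3 : ∑ j, (c j : ℤ) * dd (Γ i) (Γ j).ι.ker = - ∑ j, (c j : ℤ) * ArSurf.inter R X (L j) (Γ i) := by
        rw [← Finset.sum_neg_distrib]
        refine Finset.sum_congr rfl fun j _ => ?_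
        rw [hinter i j]
        ring
      rw [h3, ← hadj i]
      linarith
  exact key _ a le_rfl rfl

end K482.PicMain
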