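import Groth.Agent.ArSurf.K482.AdjMain
import Groth.Agent.ArSurf.K482.CurveDual
import Groth.Agent.ArSurf.K482.PicMain

/-!
# The adjunction formula on a vertical prime divisor (helper482)

* `euler_canonical`: `χ((L ⊗ ω)|_E) = -χ(O_E)`;
* `adjunction`: `E·E + K·E = -2 χ(O_E)`.
-/

set_option autoImplicit false
universe u
open CategoryTheory CategoryTheory.Limits AlgebraicGeometry
open Groth.Agent

namespace K482.AdjNum

open K482.DetPic
open Groth.Agent.Grpsch.PicGrp Groth.Agent.Dix.InterSurf

theorem eulerCharLE_eq_euler (k : Type u) [Field k] (Y : Scheme.{u}) [Y.Over (Spec (CommRingCat.of k))]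
    [IsProper (Y ↘ (Spec (CommRingCat.of k)))] (hd : topologicalKrullDim Y = 1) (F : Y.Modules) :
    FGA.eulerCharLE k Y F 1 = Curv2.euler k Y F := by
  rw [CurvesC.CurveCoh.euler_eq k Y hd]
  simp [FGA.eulerCharLE, Finset.sum_range_succ]
  ring

variable (R : Type u) [CommRing R] [IsDomain R] [IsDiscreteValuationRing R]

/-- Duality on a vertical prime divisor. -/
theorem euler_canonical (X : Over (Spec (CommRingCat.of R))) (hX : ArSurf.IsArithSurface R X)
    (E : ArSurf.VertComp R X) {L : X.left.Modules} (hL : ClSub.IsInverseOf L (ClSub.idealMod E.ι.ker))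
    {ω : X.left.Modules} (hω : Canon.IsCanonical X.hom ω) :
    FGA.eulerCharLE (IsLocalRing.ResidueField R) E.curve.left
        ((Scheme.Modules.pullback E.ι).obj (CohB1.tensorMod L ω)) 1 =
      - FGA.eulerCharLE (IsLocalRing.ResidueField R) E.curve.left (Coh.structureModule E.curve.left) 1 := by
  obtain ⟨N, P, π, t, hpr, hsm, hw, hr, h⟩ := AdjMain.main R X hX E hL hω
  have hp := isProper_curve hX E
  obtain ⟨m, w, hm, hrk, hχ, hvia⟩ := CurveDual.exists_data (IsLocalRing.ResidueField R) E.curve.left E.dim_eq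
    π N t hr hw
  have hΩ := Dual.H339.OmegaRank.isFinLocFreeOfRank_omega N π
  have hvia' := h m hrk
  have i1 := isInvertible_of_via hrk hΩ hvia
  have i2 := isInvertible_of_via hrk hΩ hvia'
  have e : mk w i1 = mk _ i2 := by
    have e1 := mk_via hrk hΩ hvia i1
    have e2 := mk_via hrk hΩ hvia' i2
    exact mul_right_cancel (e1.trans e2.symm)
  obtain ⟨e⟩ := (mk_eq_iff _ _).1 e
  rw [eulerCharLE_eq_euler _ _ E.dim_eq, eulerCharLE_eq_euler _ _ E.dim_eq, hχ, neg_neg,
    Dix.InterNum.euler_congr _ _ E.dim_eq e]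

/-- **The adjunction formula.** -/
theorem adjunction (X : Over (Spec (CommRingCat.of R))) (hX : ArSurf.IsArithSurface R X)
    (E : ArSurf.VertComp R X) {L : X.left.Modules} (hL : ClSub.IsInverseOf L (ClSub.idealMod E.ι.ker))
    {ω : X.left.Modules} (hω : Canon.IsCanonical X.hom ω) :
    ArSurf.inter R X L E + ArSurf.inter R X ω E =
      -2 * FGA.eulerCharLE (IsLocalRing.ResidueField R) E.curve.left (Coh.structureModule E.curve.left) 1 := by
  have h1 := inter_tensor hX (Dix.IdealModCartier.isInvertible_of_isInverseOf hL).1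
    (CanonVia.isInvertible_canonical hω) E
  rw [← h1, ArSurf.inter, ArSurf.curveDeg, euler_canonical R X hX E hL hω]
  ring

end K482.AdjNum
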