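import Groth.Agent.ArSurf.K482.AdjNum
import Groth.Agent.Models3.H44.ChiStep
import Groth.Agent.Models3.H44.EulerInv
import Groth.Agent.Models.H65.InterForm
import Groth.Agent.Models.H36.FibreFact
import Groth.Agent.ArSurf.K479.GenDim
import Groth.Agent.Dix.GenFibre
import Groth.Prelude.Def_Neron

/-!
# Euler characteristics of vertical divisors on an arithmetic surface (helper482)

* `chi_formula`: `-2 χ(O_D) = D·(D + K)`;
* `chi_fibre`: `χ(O_{X_s}) = χ_K(O_{X_K})`.
-/

set_option autoImplicit false
universe u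
open CategoryTheory CategoryTheory.Limits AlgebraicGeometry
open Groth.Agent

namespace K482.ChiForm

open Groth.Agent.Dix.InterSurf Groth.Agent.Models.H47 Groth.Agent.Models.H47.EulerLen
open Groth.Agent.Models.H47.GenusD

variable {R : Type u} [CommRing R] [IsDomain R] [IsDiscreteValuationRing R]
variable {X : Over (Spec (CommRingCat.of R))}

theorem euler_eq_wdeg (Γ : ArSurf.VertComp R X) :
    FGA.eulerCharLE (IsLocalRing.ResidueField R) Γ.curve.left (Coh.structureModule Γ.curve.left) 1 =
      (Models.wdeg R X Γ : ℤ) - (Models.h1 R X Γ : ℤ) :=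
  CurveVan.eulerCharLE_one _ _ _

theorem prod_add_single {n : ℕ} (Γ : Fin n → ArSurf.VertComp R X) (a : Fin n → ℕ) (i : Fin n) :
    (∏ j, (Γ j).ι.ker ^ (a + Pi.single i 1 : Fin n → ℕ) j) =
      ∏ j, (Γ j).ι.ker ^ (a j + if j = i then 1 else 0) := by
  refine Finset.prod_congr rfl fun j _ => ?_
  rw [Pi.add_apply, Pi.single_apply]

/-- **`-2 χ(O_D) = D·(D + K)`** for `D = Σ a_i Γ_i`. -/
theorem chi_formula (hX : ArSurf.IsArithSurface R X) {n : ℕ} (Γ : Fin n → ArSurf.VertComp R X)
    (L : Fin n → X.left.Modules) (hL : ∀ i, ClSub.IsInverseOf (L i) (ClSub.idealMod (Γ i).ι.ker))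
    (hsymm : ∀ i j, ArSurf.inter R X (L j) (Γ i) = ArSurf.inter R X (L i) (Γ j))
    {ω : X.left.Modules} (hω : Canon.IsCanonical X.hom ω) (a : Fin n → ℕ) :
    -2 * chi R (ClSub.quotMod (∏ j, (Γ j).ι.ker ^ a j)) =
      ∑ i, (a i : ℤ) * (∑ j, (a j : ℤ) * ArSurf.inter R X (L j) (Γ i) + ArSurf.inter R X ω (Γ i)) := by
  have hp : IsProper X.hom := isProper_hom hX
  have hf : Flat X.hom := hX.2.2.2.1
  have key : ∀ (N : ℕ) (a : Fin n → ℕ), ∑ i, a i = N →
      -2 * chi R (ClSub.quotMod (∏ j, (Γ j).ι.ker ^ a j)) =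
      ∑ i, (a i : ℤ) * (∑ j, (a j : ℤ) * ArSurf.inter R X (L j) (Γ i) + ArSurf.inter R X ω (Γ i)) := by
    intro N
    induction N with
    | zero =>
      intro a ha
      have ha' : a = 0 := by
        funext i
        exact (Finset.sum_eq_zero_iff.1 ha) i (Finset.mem_univ i)
      subst ha'
      have h1 : ∏ j, (Γ j).ι.ker ^ ((0 : Fin n → ℕ) j) = (1 : X.left.IdealSheafData) :=
        Finset.prod_eq_one fun j _ => pow_zero _
      rw [h1, quotMod_one.2]
      simp
    | succ N ih =>
      intro a ha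
      obtain ⟨i, hi⟩ : ∃ i, a i ≠ 0 := by
        by_contra h
        push Not at h
        rw [Finset.sum_eq_zero fun i _ => h i] at ha
        omega
      obtain ⟨b, rfl⟩ : ∃ b : Fin n → ℕ, a = b + Pi.single i 1 := by
        refine ⟨a - Pi.single i 1, ?_⟩
        funext j
        rw [Pi.add_apply, Pi.sub_apply]
        by_cases hj : j = i
        · subst hj
          rw [Pi.single_eq_same]
          omega
        · rw [Pi.single_eq_of_ne hj]
          omega
      have hb : ∑ j, b j = N := by
        simp only [Pi.add_apply, Finset.sum_add_distrib, Finset.sum_pi_single', Finset.mem_univ, if_true] at ha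
        omega
      have h1 := Models3.H44.ChiStep.chi_sub Γ L hL b i
      rw [← prod_add_single] at h1
      have h2 := ih b hb
      have h3 := AdjNum.adjunction R X hX (Γ i) (hL i) hω
      rw [euler_eq_wdeg] at h3
      have e1 : ∀ f : Fin n → ℤ, ∑ j, ((b + Pi.single i 1 : Fin n → ℕ) j : ℤ) * f j =
          ∑ j, (b j : ℤ) * f j + f i := by
        intro f
        have : ∀ j, ((b + Pi.single i 1 : Fin n → ℕ) j : ℤ) * f j =
            (b j : ℤ) * f j + (if j = i then f j else 0) := by
          intro j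
          rw [Pi.add_apply, Pi.single_apply]
          split_ifs <;> push_cast <;> ring
        rw [Finset.sum_congr rfl fun j _ => this j, Finset.sum_add_distrib, Finset.sum_ite_eq' Finset.univ i f,
          if_pos (Finset.mem_univ i)]
      have h4 : ∀ i', ∑ j, ((b + Pi.single i 1 : Fin n → ℕ) j : ℤ) * ArSurf.inter R X (L j) (Γ i') =
          ∑ j, (b j : ℤ) * ArSurf.inter R X (L j) (Γ i') + ArSurf.inter R X (L i) (Γ i') :=
        fun i' => e1 fun j => ArSurf.inter R X (L j) (Γ i')
      simp only [h4]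
      rw [e1 (fun i' => ∑ j, (b j : ℤ) * ArSurf.inter R X (L j) (Γ i') + ArSurf.inter R X (L i) (Γ i') +
        ArSurf.inter R X ω (Γ i'))]
      have h5 : ∑ j, (b j : ℤ) * (∑ k, (b k : ℤ) * ArSurf.inter R X (L k) (Γ j) + ArSurf.inter R X (L i) (Γ j) +
          ArSurf.inter R X ω (Γ j)) =
          ∑ j, (b j : ℤ) * (∑ k, (b k : ℤ) * ArSurf.inter R X (L k) (Γ j) + ArSurf.inter R X ω (Γ j)) +
            ∑ j, (b j : ℤ) * ArSurf.inter R X (L j) (Γ i) := by
        rw [← Finset.sum_add_distrib]
        refine Finset.sum_congr rfl fun j _ => ?_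
        rw [hsymm i j]
        ring
      rw [h5, ← h2]
      linarith
  exact key _ a rfl

/-- The closed fibre has the Euler characteristic of the generic fibre. -/
theorem chi_fibre (hX : ArSurf.IsArithSurface R X) :
    chi R (ClSub.quotMod (Models.specialFibreIdeal R X)) =
      FGA.eulerCharLE (FractionRing R) ((Neron.genericFibre R).obj X).left
        (Coh.structureModule ((Neron.genericFibre R).obj X).left) 1 := by
  have hp : IsProper X.hom := isProper_hom hX
  have hf : Flat X.hom := hX.2.2.2.1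
  have hi : IsIntegral X.left := hX.2.1
  obtain ⟨ϖ, hϖ⟩ := IsDiscreteValuationRing.exists_irreducible R
  have hdim := K479.GenDim.topologicalKrullDim_genericFibre X hX.2.2.1
  have h := Dix.GenFibre.isPullback_genι X
  obtain ⟨w, hS⟩ := Models3.H44.EulerInv.exists_shortExact (Models3.H44.EulerInv.genOn_specialFibreIdeal X.hom hϖ)
  have h1 := Models3.H44.EulerInv.euler_mul R ((Neron.genericFibre R).obj X).hom X.hom _ h hdim.le hϖ
    (CurvesB.UnitCoh.isCoh_structureModule X.left) _ _ w hS (Models3.H44.EulerInv.toAbMap_mulHom _)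
  rw [Models3.H44.EulerInv.hRank_congr (FractionRing R) ((Neron.genericFibre R).obj X).hom
      (CurvesA.HHMap.pullbackUnit _),
    Models3.H44.EulerInv.hRank_congr (FractionRing R) ((Neron.genericFibre R).obj X).hom
      (CurvesA.HHMap.pullbackUnit _)] at h1
  rw [CurveVan.eulerCharLE_one]
  exact h1

end K482.ChiForm
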