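import Groth.Agent.Dix.TwistClosed490
import Groth.Agent.Fcompl.H545.SysBasic
import Groth.Agent.Divis.IdealComap
import Groth.Agent.PerfB.ModExact
import Groth.Agent.CohqA.ClosedPush
import Mathlib.CategoryTheory.Abelian.DiagramLemmas.KernelCokernelComp

/-!
# The ideal of one divisor on the sum of two (helper482)

`J` an ideal of `X`, `j : Z ⟶ X` its closed subscheme, `J = (z ≫ j).ker * (γ ≫ j).ker` for closed immersions
`z : W ⟶ Z`, `γ : E ⟶ Z`:
* `K z := ker (O_Z ⟶ z_* O_W)`; `kills_K`: it is killed by `γ.ker`;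
* `nonempty_pull_K`: `γ^* (K z) ≅ (γ ≫ j)^* (idealMod (z ≫ j).ker)`.
-/

set_option autoImplicit false
universe u

open CategoryTheory CategoryTheory.Limits AlgebraicGeometry Opposite TopologicalSpace

namespace K482.PicStep

open Groth.Agent Groth.Agent.Dix.IdealModCartier Groth.Agent.Dix.TwistClosed490 Groth.Agent.Dix.IdealModSec

section Abelian

variable {C : Type*} [Category C] [Abelian C]

/-- `0 ⟶ ker f ⟶ ker (f ≫ g) ⟶ ker g ⟶ 0` for `f` epi. -/
theorem shortExact_ker {X Y Z : C} (f : X ⟶ Y) (g : Y ⟶ Z) [Epi f] :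
    ∃ (a : kernel f ⟶ kernel (f ≫ g)) (b : kernel (f ≫ g) ⟶ kernel g) (w : a ≫ b = 0),
      (ShortComplex.mk a b w).ShortExact ∧ a ≫ kernel.ι (f ≫ g) = kernel.ι f := by
  have h := kernelCokernelCompSequence_exact f g
  let a : kernel f ⟶ kernel (f ≫ g) := kernel.map f (f ≫ g) (𝟙 _) g (by simp)
  let b : kernel (f ≫ g) ⟶ kernel g := kernel.map (f ≫ g) g f (𝟙 _) (by simp)
  have h0 := h.exact 0
  have h1 := h.exact 1
  have hcok : IsZero (cokernel f) := by
    refine (IsZero.iff_id_eq_zero _).2 ?_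
    rw [← cancel_epi (cokernel.π f), cokernel.π_of_epi]
    simp
  have w : a ≫ b = 0 := h.toIsComplex.zero 0
  have ha : a ≫ kernel.ι (f ≫ g) = kernel.ι f := by simp [a]
  refine ⟨a, b, w, ?_, ha⟩
  have hmono : Mono a := by
    have : Mono (a ≫ kernel.ι (f ≫ g)) := by rw [ha]; infer_instance
    exact mono_of_mono a (kernel.ι (f ≫ g))
  have hepi : Epi b := by
    have : (ShortComplex.mk b (kernelCokernelCompSequence.δ f g) (h.toIsComplex.zero 1)).Exact := h1
    exact this.epi_f (hcok.eq_of_tgt _ _)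
  exact { exact := h0, mono_f := hmono, epi_g := hepi }

end Abelian

section Unit

variable {V V' X : Scheme.{u}} (f : V ⟶ X)

theorem comp_unitToPush_eq_zero_iff {M : X.Modules} (φ : M ⟶ Coh.structureModule X) :
    φ ≫ ClSub.unitToPush f = 0 ↔ ∀ (U : X.Opens) (s : Γ(M, U)), f.app U (φ.app U s : Γ(X, U)) = 0 := by
  constructor
  · intro h U s
    exact congr(Scheme.Modules.Hom.app $h U s)
  · intro h
    apply Scheme.Modules.hom_ext
    intro U
    ext s
    exact h U s

theorem app_eq_zero_of_factor {f : V ⟶ X} {g : V' ⟶ X} (a : V ⟶ V') (h : a ≫ g = f) {U : X.Opens}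
    {s : Γ(X, U)} (hs : g.app U s = 0) : f.app U s = 0 := by
  subst h
  rw [Scheme.Hom.comp_app]
  change a.app _ (g.app U s) = 0
  rw [hs, map_zero]

theorem epi_unitToPush [IsClosedImmersion f] : Epi (ClSub.unitToPush f) := by
  apply PerfB.ModExact.epi_of_locally_surjective
  intro U s x hx
  obtain ⟨T, hxT, hTU⟩ := exists_affine_mem_le U x hx
  obtain ⟨a, ha⟩ := f.app_surjective T.1 T.2
    (((Scheme.Modules.pushforward f).obj (Coh.structureModule V)).presheaf.map (homOfLE hTU).op s)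
  exact ⟨T.1, hTU, hxT, a, ha⟩

/-- The kernel of `O_X ⟶ f_* O_V`. -/
noncomputable abbrev K : X.Modules := kernel (ClSub.unitToPush f)

/-- The value of a section of `K f`. -/
theorem app_val_eq_zero (U : X.Opens) (s : Γ(K f, U)) :
    f.app U ((kernel.ι (ClSub.unitToPush f)).app U s : Γ(X, U)) = 0 :=
  (comp_unitToPush_eq_zero_iff f (kernel.ι (ClSub.unitToPush f))).1 (kernel.condition _) U s

theorem idealModι_comp_unitToPush [IsClosedImmersion f] :
    ClSub.idealModι f.ker ≫ ClSub.unitToPush f = 0 := by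
  rw [comp_unitToPush_eq_zero_iff]
  intro U s
  exact app_eq_zero_of_factor f.toImage f.toImage_imageι (subschemeι_app_idealModι f.ker U s)

end Unit

section Pair

variable {X W E : Scheme.{u}} (J : X.IdealSheafData) (z : W ⟶ J.subscheme) (γ : E ⟶ J.subscheme)
  [IsClosedImmersion z] [IsClosedImmersion γ]

/-- The push-forward of `O_Z ⟶ z_* O_W`. -/
noncomputable abbrev q : ClSub.quotMod J ⟶
    (Scheme.Modules.pushforward J.subschemeι).obj
      ((Scheme.Modules.pushforward z).obj (Coh.structureModule W)) :=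
  (Scheme.Modules.pushforward J.subschemeι).map (ClSub.unitToPush z)

omit [IsClosedImmersion z] in
theorem comp_pq_eq_zero_iff {M : X.Modules} (φ : M ⟶ Coh.structureModule X) :
    φ ≫ ClSub.toSubscheme J ≫ q J z = 0 ↔ φ ≫ ClSub.unitToPush (z ≫ J.subschemeι) = 0 := by
  rw [comp_unitToPush_eq_zero_iff]
  constructor
  · intro h U s
    have h1 : z.app (J.subschemeι ⁻¹ᵁ U) (J.subschemeι.app U (φ.app U s : Γ(X, U))) = 0 :=
      congr(Scheme.Modules.Hom.app $h U s)
    rw [Scheme.Hom.comp_app]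
    exact h1
  · intro h
    apply Scheme.Modules.hom_ext
    intro U
    ext s
    have h1 := h U s
    rw [Scheme.Hom.comp_app] at h1
    exact h1

/-- `idealMod (z ≫ j).ker ≅ ker (O_X ⟶ j_* O_Z ⟶ j_* z_* O_W)`, over `O_X`. -/
theorem exists_iso_ker : ∃ e : ClSub.idealMod (z ≫ J.subschemeι).ker ≅ kernel (ClSub.toSubscheme J ≫ q J z),
    e.hom ≫ kernel.ι _ = ClSub.idealModι (z ≫ J.subschemeι).ker := by
  have h1 : ClSub.idealModι (z ≫ J.subschemeι).ker ≫ ClSub.toSubscheme J ≫ q J z = 0 := by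
    rw [comp_pq_eq_zero_iff]
    exact idealModι_comp_unitToPush _
  have h2 : kernel.ι (ClSub.toSubscheme J ≫ q J z) ≫ ClSub.toSubscheme (z ≫ J.subschemeι).ker = 0 := by
    have h3 := (comp_pq_eq_zero_iff J z (kernel.ι (ClSub.toSubscheme J ≫ q J z))).1 (kernel.condition _)
    rw [comp_unitToPush_eq_zero_iff] at h3 ⊢
    intro U s
    refine app_eq_zero_of_factor (inv (z ≫ J.subschemeι).toImage) ?_ (h3 U s)
    rw [IsIso.inv_comp_eq]
    exact ((z ≫ J.subschemeι).toImage_imageι).symm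
  obtain ⟨a, ha⟩ : ∃ a : ClSub.idealMod (z ≫ J.subschemeι).ker ⟶ kernel (ClSub.toSubscheme J ≫ q J z),
      a ≫ kernel.ι _ = ClSub.idealModι (z ≫ J.subschemeι).ker := ⟨_, kernel.lift_ι _ _ h1⟩
  obtain ⟨b, hb⟩ : ∃ b : kernel (ClSub.toSubscheme J ≫ q J z) ⟶ ClSub.idealMod (z ≫ J.subschemeι).ker,
      b ≫ ClSub.idealModι (z ≫ J.subschemeι).ker = kernel.ι (ClSub.toSubscheme J ≫ q J z) :=
    ⟨_, kernel.lift_ι _ _ h2⟩
  refine ⟨⟨a, b, ?_, ?_⟩, ha⟩
  · rw [← cancel_mono (ClSub.idealModι (z ≫ J.subschemeι).ker), Category.assoc, hb, ha, Category.id_comp]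
  · rw [← cancel_mono (kernel.ι (ClSub.toSubscheme J ≫ q J z)), Category.assoc, ha, hb, Category.id_comp]

/-- `j_* K z` is the cokernel of `idealMod J ⟶ idealMod (z ≫ j).ker`. -/
theorem nonempty_iso_coker (h : J ≤ (z ≫ J.subschemeι).ker) :
    Nonempty ((Scheme.Modules.pushforward J.subschemeι).obj (K z) ≅ cokernel (incl h)) := by
  obtain ⟨β, hβ⟩ := exists_iso_ker J z
  have hepi : Epi (ClSub.toSubscheme J) := epi_unitToPush J.subschemeι
  have key : ∃ (a : ClSub.idealMod J ⟶ kernel (ClSub.toSubscheme J ≫ q J z))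
      (b : kernel (ClSub.toSubscheme J ≫ q J z) ⟶ kernel (q J z)) (w : a ≫ b = 0),
      (ShortComplex.mk a b w).ShortExact ∧
        a ≫ kernel.ι (ClSub.toSubscheme J ≫ q J z) = ClSub.idealModι J :=
    shortExact_ker (ClSub.toSubscheme J) (q J z)
  obtain ⟨a, b, w, hS, ha⟩ := key
  have := hS.epi_g
  have hw : incl h ≫ β.hom = (Iso.refl (ClSub.idealMod J)).hom ≫ a := by
    rw [← cancel_mono (kernel.ι (ClSub.toSubscheme J ≫ q J z)), Category.assoc, hβ, incl_ι, Iso.refl_hom,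
      Category.id_comp, ha]
  exact ⟨PreservesKernel.iso (Scheme.Modules.pushforward J.subschemeι) (ClSub.unitToPush z) ≪≫
    ((cokernelIsCokernel a).coconePointUniqueUpToIso hS.gIsCokernel).symm ≪≫
    (cokernel.mapIso (incl h) a (Iso.refl _) β hw).symm⟩

theorem comap_self : J.comap J.subschemeι = ⊥ := by
  have h := Fcompl.H545.SysBasic.comap_ker_self J.subschemeι
  rwa [J.ker_subschemeι] at h

variable (hJ : J = (z ≫ J.subschemeι).ker * (γ ≫ J.subschemeι).ker)

include hJ in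
theorem ker_mul_ker : z.ker * γ.ker = ⊥ := by
  rw [← Fcompl.H545.SysBasic.comap_ker_comp z J.subschemeι,
    ← Fcompl.H545.SysBasic.comap_ker_comp γ J.subschemeι, ← Divis.IdealComap.comap_mul, ← hJ, comap_self]

include hJ in
/-- `K z` is killed by `γ.ker`. -/
theorem kills_K : Ega1.ClosedKill.Kills γ.ker (K z) := by
  intro U a ha s
  obtain ⟨v, hv⟩ : ∃ v : Γ(J.subscheme, U.1), v = (kernel.ι (ClSub.unitToPush z)).app U.1 s := ⟨_, rfl⟩
  have h3 : z.app U v = 0 := hv ▸ app_val_eq_zero z U.1 s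
  have h4 : v ∈ z.ker.ideal U := by
    rw [Scheme.Hom.ker_apply]
    exact h3
  have h5 : v * a ∈ (z.ker * γ.ker).ideal U := Ideal.mul_mem_mul h4 ha
  rw [ker_mul_ker J z γ hJ, mul_comm] at h5
  have h6 : a * v = 0 := h5
  apply kernel_app_injective (ClSub.unitToPush z) U.1
  rw [Scheme.Modules.Hom.app_smul, map_zero, ← hv]
  exact h6

include hJ in
/-- `γ^* (K z) ≅ (γ ≫ j)^* (idealMod (z ≫ j).ker)`. -/
theorem nonempty_pull_K : Nonempty ((Scheme.Modules.pullback γ).obj (K z) ≅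
    (Scheme.Modules.pullback (γ ≫ J.subschemeι)).obj (ClSub.idealMod (z ≫ J.subschemeι).ker)) := by
  have h : J ≤ (z ≫ J.subschemeι).ker := by
    conv_lhs => rw [← J.ker_subschemeι]
    exact Scheme.Hom.le_ker_comp z J.subschemeι
  obtain ⟨e1⟩ := nonempty_iso_coker J z h
  obtain ⟨e2⟩ := nonempty_pull_iso (γ ≫ J.subschemeι) h hJ.le
  have := CohqA.ClosedPush.full (i := J.subschemeι)
  have := CohqA.ClosedPush.faithful (i := J.subschemeι)
  exact ⟨(Scheme.Modules.pullback γ).mapIso (asIso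
      ((Scheme.Modules.pullbackPushforwardAdjunction J.subschemeι).counit.app (K z))).symm ≪≫
    (Scheme.Modules.pullbackComp γ J.subschemeι).app _ ≪≫
    (Scheme.Modules.pullback (γ ≫ J.subschemeι)).mapIso e1 ≪≫ e2.symm⟩

end Pair

end K482.PicStep
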