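import Groth.Agent.ArSurf.K482.PicStep
import Groth.Agent.FormalA.ThickSurj
import Groth.Agent.CohqB.HSeqMod

/-!
# Cohomology and sections on the union of two closed subschemes (helper482)

`z : W ⟶ Z`, `γ : E ⟶ Z` closed immersions, `K z = ker (O_Z ⟶ z_* O_W)` killed by `γ.ker`, `N` invertible on `Z` with
`H^1(E, γ^* N ⊗ γ^* (K z)) = 0`:
* `H1_of`: if `H^1(W, z^* N) = 0` then `H^1(Z, N) = 0`;
* `surjective_unit`: `Γ(Z, N) ⟶ Γ(W, z^* N)` is surjective.
-/

set_option autoImplicit false
universe u

open CategoryTheory CategoryTheory.Limits AlgebraicGeometry Opposite TopologicalSpace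

namespace K482.PicStepH

open Groth.Agent K482.PicStep

variable {Z W E : Scheme.{u}} (z : W ⟶ Z) (γ : E ⟶ Z) [IsClosedImmersion z] [IsClosedImmersion γ]

theorem seq_shortExact : (ShortComplex.mk (kernel.ι (ClSub.unitToPush z)) (ClSub.unitToPush z)
    (kernel.condition _)).ShortExact where
  exact := ShortComplex.exact_of_f_is_kernel _ (kernelIsKernel _)
  mono_f := inferInstanceAs (Mono (kernel.ι _))
  epi_g := epi_unitToPush z

theorem hasBases {N : Z.Modules} (hN : PicF.IsInvertible N) : VarietyB.TensCoh.HasBases N :=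
  VarietyB.TensCoh.HasBases.of_isFinLocFree (FormalA.ThickSurj.isFinLocFree_of_isInvertible hN)

omit [IsClosedImmersion z] in
theorem nonempty_tensor_K (hk : Ega1.ClosedKill.Kills γ.ker (K z)) {N : Z.Modules} (hN : PicF.IsInvertible N) :
    Nonempty (CohB1.tensorMod N (K z) ≅ (Scheme.Modules.pushforward γ).obj
      (CohB1.tensorMod ((Scheme.Modules.pullback γ).obj N) ((Scheme.Modules.pullback γ).obj (K z)))) := by
  have := hk.isIso_unit γ
  exact ⟨Ega2.Tens.mapTIso (Iso.refl N)
    (asIso ((Scheme.Modules.pullbackPushforwardAdjunction γ).unit.app (K z))) ≪≫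
    VarietyB.ProjForm.projIso γ (hasBases hN) _⟩

omit [IsClosedImmersion z] in
theorem H1_tensor_K (hk : Ega1.ClosedKill.Kills γ.ker (K z)) {N : Z.Modules} (hN : PicF.IsInvertible N)
    (h : Subsingleton (Coh.HH E (CohB1.tensorMod ((Scheme.Modules.pullback γ).obj N)
      ((Scheme.Modules.pullback γ).obj (K z))) 1)) : Subsingleton (Coh.HH Z (CohB1.tensorMod N (K z)) 1) := by
  obtain ⟨e⟩ := nonempty_tensor_K z γ hk hN
  exact Dix.TwistClosed490.subsingleton_HH_of_iso e.symm 1
    (Dix.TwistClosed490.subsingleton_HH_pushforward γ _ 1 h)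

theorem H1_of (hk : Ega1.ClosedKill.Kills γ.ker (K z)) {N : Z.Modules} (hN : PicF.IsInvertible N)
    (h : Subsingleton (Coh.HH E (CohB1.tensorMod ((Scheme.Modules.pullback γ).obj N)
      ((Scheme.Modules.pullback γ).obj (K z))) 1))
    (hW : Subsingleton (Coh.HH W ((Scheme.Modules.pullback z).obj N) 1)) : Subsingleton (Coh.HH Z N 1) := by
  have h1 := H1_tensor_K z γ hk hN h
  have hS := Sga67.TensorOps.tensor_shortExact (FormalA.ThickSurj.isFinLocFree_of_isInvertible hN)
    (seq_shortExact z)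
  have h3 : Subsingleton (Coh.HH Z (CohB1.tensorMod N ((Scheme.Modules.pushforward z).obj
      (Coh.structureModule W))) 1) :=
    Dix.TwistClosed490.subsingleton_HH_of_iso (VarietyB.ProjForm.projIsoUnit z (hasBases hN)).symm 1
      (Dix.TwistClosed490.subsingleton_HH_pushforward z _ 1 hW)
  have h2 : Subsingleton (Coh.HH Z (CohB1.tensorMod N (Coh.structureModule Z)) 1) := by
    refine subsingleton_of_forall_eq 0 fun x => ?_
    obtain ⟨y, hy⟩ := CohqB.HSeqMod.exact₂ hS 1 x (@Subsingleton.elim _ h3 _ _)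
    have hy0 : y = 0 := @Subsingleton.elim _ h1 y 0
    rw [← hy, hy0]
    exact map_zero _
  exact Dix.TwistClosed490.subsingleton_HH_of_iso (Ega2.Tens.runit N) 1 h2

omit [IsClosedImmersion z] in
theorem qmap_eq : FormalA.ThickSurj.qmap z = ClSub.unitToPush z := by
  apply Scheme.Modules.hom_ext
  intro U
  ext s
  rfl

theorem surjective_unit (hk : Ega1.ClosedKill.Kills γ.ker (K z)) {N : Z.Modules} (hN : PicF.IsInvertible N)
    (h : Subsingleton (Coh.HH E (CohB1.tensorMod ((Scheme.Modules.pullback γ).obj N)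
      ((Scheme.Modules.pullback γ).obj (K z))) 1)) :
    Function.Surjective (((Scheme.Modules.pullbackPushforwardAdjunction z).unit.app N).app ⊤) := by
  have w : kernel.ι (ClSub.unitToPush z) ≫ FormalA.ThickSurj.qmap z = 0 := by
    rw [qmap_eq, kernel.condition]
  refine FormalA.ThickSurj.surjective_unit_of_H1 z N hN (kernel.ι (ClSub.unitToPush z)) w ?_
    (H1_tensor_K z γ hk hN h)
  have h1 := seq_shortExact z
  simp only [← qmap_eq] at h1
  exact h1

end K482.PicStepH
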