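import Groth.Agent.ArSurf.K482.PicStepH
import Groth.Agent.Ega1.AmpFam

/-!
# Triviality of an invertible module on the union of two closed subschemes (helper482)

* `exists_lift`: lifting a section;
* `nonempty_of_meet`: `z^* N` trivial, sections lift along `z`, every nonzero section of `γ^* N` is an isomorphism, and the
  two closed subschemes meet: `N` is trivial;
* `nonempty_of_disjoint`: the two closed subschemes are disjoint.
-/

set_option autoImplicit false
universe u

open CategoryTheory CategoryTheory.Limits AlgebraicGeometry Opposite TopologicalSpace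

namespace K482.PicTriv

open Groth.Agent Groth.Agent.Fdesc.LocGen

variable {Z W E : Scheme.{u}} (z : W ⟶ Z) (γ : E ⟶ Z)

theorem exists_lift {N : Z.Modules}
    (hl : Function.Surjective (((Scheme.Modules.pullbackPushforwardAdjunction z).unit.app N).app ⊤))
    (s : Coh.structureModule W ⟶ (Scheme.Modules.pullback z).obj N) :
    ∃ t : Coh.structureModule Z ⟶ N, pullHom z t = s := by
  obtain ⟨m, hm⟩ := hl (sec s ⊤)
  refine ⟨homOf m, ?_⟩
  apply hom_ext_sec
  have h2 := sec_pullHom z (homOf m) ⊤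
  rw [sec_homOf, res_refl] at h2
  exact h2.trans hm

theorem genLocus_eq_top {M : Z.Modules} (s : Coh.structureModule Z ⟶ M) [IsIso s] :
    CohB1.genLocus M s = ⊤ := by
  rw [eq_top_iff, le_genLocus_iff, ← isIso_iff_isGen]
  infer_instance

theorem isIso_of_genLocus {M : Z.Modules} (s : Coh.structureModule Z ⟶ M) (h : CohB1.genLocus M s = ⊤) :
    IsIso s := by
  rw [isIso_iff_isGen, ← le_genLocus_iff, h]

theorem ne_zero_of_mem_genLocus {M : Z.Modules} (s : Coh.structureModule Z ⟶ M) {x : Z}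
    (hx : x ∈ CohB1.genLocus M s) : s ≠ 0 := by
  rintro rfl
  obtain ⟨V, hxV, hV⟩ := (mem_genLocus_iff _ x).1 hx
  have h1 : sec (0 : Coh.structureModule Z ⟶ M) V = 0 := rfl
  rw [h1] at hV
  have h2 : (1 : Γ(Z, V)) = 0 := hV.ext (by rw [one_smul, zero_smul])
  have h3 : Nonempty V := ⟨⟨x, hxV⟩⟩
  exact one_ne_zero h2

/-- A section which generates along `W` and whose restriction to `E` is an isomorphism. -/
theorem isIso_of {N : Z.Modules} (hN : PicF.IsInvertible N) (hsurj : ∀ x : Z, x ∈ Set.range z ∨ x ∈ Set.range γ)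
    (t : Coh.structureModule Z ⟶ N) (h1 : IsIso (pullHom z t)) (h2 : IsIso (pullHom γ t)) : IsIso t := by
  apply isIso_of_genLocus
  rw [eq_top_iff]
  intro x _
  rcases hsurj x with ⟨y, rfl⟩ | ⟨y, rfl⟩
  · have h := Ega1.AmpFam.genLocus_pullHom z hN t
    rw [genLocus_eq_top] at h
    have h3 : y ∈ z ⁻¹ᵁ CohB1.genLocus N t := h ▸ trivial
    exact h3
  · have h := Ega1.AmpFam.genLocus_pullHom γ hN t
    rw [genLocus_eq_top] at h
    have h3 : y ∈ γ ⁻¹ᵁ CohB1.genLocus N t := h ▸ trivial
    exact h3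

theorem nonempty_of_meet {N : Z.Modules} (hN : PicF.IsInvertible N)
    (hsurj : ∀ x : Z, x ∈ Set.range z ∨ x ∈ Set.range γ)
    (hl : Function.Surjective (((Scheme.Modules.pullbackPushforwardAdjunction z).unit.app N).app ⊤))
    (hW : Nonempty ((Scheme.Modules.pullback z).obj N ≅ Coh.structureModule W))
    (hE : ∀ s : Coh.structureModule E ⟶ (Scheme.Modules.pullback γ).obj N, s ≠ 0 → IsIso s)
    (p : W) (y : E) (hpy : z p = γ y) : Nonempty (N ≅ Coh.structureModule Z) := by
  obtain ⟨e⟩ := hW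
  obtain ⟨t, ht⟩ := exists_lift z hl e.inv
  have h1 : IsIso (pullHom z t) := by rw [ht]; infer_instance
  have h2 : IsIso (pullHom γ t) := by
    apply hE
    apply ne_zero_of_mem_genLocus (x := y)
    rw [Ega1.AmpFam.genLocus_pullHom γ hN t]
    change γ y ∈ CohB1.genLocus N t
    rw [← hpy]
    have h := Ega1.AmpFam.genLocus_pullHom z hN t
    rw [genLocus_eq_top] at h
    have h3 : p ∈ z ⁻¹ᵁ CohB1.genLocus N t := h ▸ trivial
    exact h3
  have := isIso_of z γ hN hsurj t h1 h2
  exact ⟨(asIso t).symm⟩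

theorem nonempty_of_disjoint {N : Z.Modules} (hN : PicF.IsInvertible N) [IsClosedImmersion z] [IsClosedImmersion γ]
    (hsurj : ∀ x : Z, x ∈ Set.range z ∨ x ∈ Set.range γ)
    (hdis : ∀ (p : W) (y : E), z p ≠ γ y)
    (hl : Function.Surjective (((Scheme.Modules.pullbackPushforwardAdjunction z).unit.app N).app ⊤))
    (hl' : Function.Surjective (((Scheme.Modules.pullbackPushforwardAdjunction γ).unit.app N).app ⊤))
    (hW : Nonempty ((Scheme.Modules.pullback z).obj N ≅ Coh.structureModule W))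
    (hE : Nonempty ((Scheme.Modules.pullback γ).obj N ≅ Coh.structureModule E)) :
    Nonempty (N ≅ Coh.structureModule Z) := by
  obtain ⟨e⟩ := hW
  obtain ⟨e'⟩ := hE
  obtain ⟨t, ht⟩ := exists_lift z hl e.inv
  obtain ⟨t', ht'⟩ := exists_lift γ hl' e'.inv
  have h1 : ∀ p : W, z p ∈ CohB1.genLocus N t := by
    intro p
    have h := Ega1.AmpFam.genLocus_pullHom z hN t
    rw [ht, genLocus_eq_top] at h
    have h3 : p ∈ z ⁻¹ᵁ CohB1.genLocus N t := h ▸ trivial
    exact h3
  have h2 : ∀ y : E, γ y ∈ CohB1.genLocus N t' := by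
    intro p
    have h := Ega1.AmpFam.genLocus_pullHom γ hN t'
    rw [ht', genLocus_eq_top] at h
    have h3 : p ∈ γ ⁻¹ᵁ CohB1.genLocus N t' := h ▸ trivial
    exact h3
  let U₁ : Z.Opens := ⟨(Set.range γ)ᶜ, γ.isClosedEmbedding.isClosed_range.isOpen_compl⟩
  let U₂ : Z.Opens := ⟨(Set.range z)ᶜ, z.isClosedEmbedding.isClosed_range.isOpen_compl⟩
  have hU₁ : U₁ ≤ CohB1.genLocus N t := by
    intro x hx
    rcases hsurj x with ⟨y, rfl⟩ | h
    · exact h1 y
    · exact absurd h hx
  have hU₂ : U₂ ≤ CohB1.genLocus N t' := by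
    intro x hx
    rcases hsurj x with h | ⟨y, rfl⟩
    · exact absurd h hx
    · exact h2 y
  have hbot : ∀ x : Z, ¬ (x ∈ U₁ ∧ x ∈ U₂) := by
    rintro x ⟨hx1, hx2⟩
    rcases hsurj x with h | h
    · exact hx2 h
    · exact hx1 h
  let U : Bool → Z.Opens := fun b => if b then U₁ else U₂
  let T : Bool → (Coh.structureModule Z ⟶ N) := fun b => if b then t else t'
  have hUT : ∀ b, U b ≤ CohB1.genLocus N (T b) := by
    intro b
    cases b
    · exact hU₂
    · exact hU₁
  have hcov : ⨆ b, U b = ⊤ := by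
    rw [eq_top_iff]
    intro x _
    rcases hsurj x with ⟨p, rfl⟩ | ⟨y, rfl⟩
    · refine Opens.mem_iSup.2 ⟨true, ?_⟩
      rintro ⟨y, hy⟩
      exact hdis p y hy.symm
    · refine Opens.mem_iSup.2 ⟨false, ?_⟩
      rintro ⟨p, hp⟩
      exact hdis p y hp
  have hcomp : ∀ i j, res N (inf_le_left : U i ⊓ U j ≤ U i) (sec (T i) (U i)) =
      res N inf_le_right (sec (T j) (U j)) := by
    intro i j
    rw [res_sec, res_sec]
    by_cases hij : i = j
    · subst hij; rfl
    · refine res_ext N (ι := Empty) (fun i => i.elim) (fun i => i.elim) ?_ (fun i => i.elim)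
      intro x hx
      exfalso
      cases i <;> cases j
      · exact hij rfl
      · exact hbot x ⟨hx.2, hx.1⟩
      · exact hbot x ⟨hx.1, hx.2⟩
      · exact hij rfl
  obtain ⟨s, hs⟩ := exists_hom_of_family U hcov (fun b => sec (T b) (U b)) hcomp
  have hiso : IsIso s := by
    apply isIso_of_genLocus
    rw [eq_top_iff, ← hcov]
    refine iSup_le fun b => ?_
    rw [le_genLocus_iff, hs b, ← le_genLocus_iff]
    exact hUT b
  exact ⟨(asIso s).symm⟩

end K482.PicTriv
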