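import Groth.Agent.ArSurf.K482.PicMain
import Groth.Agent.ArSurf.K482.AdjNum
import Groth.Agent.Models.H38.TrivGen

/-!
# Numerically trivial line bundles on effective divisors supported on a negative definite configuration with `K·Γ_i = 0`
(helper482)
-/

set_option autoImplicit false
universe u
open CategoryTheory CategoryTheory.Limits AlgebraicGeometry
open Groth.Agent

namespace K482.TrivZ

open K482.DetPic K482.PicMain
open Groth.Agent.Grpsch.PicGrp Groth.Agent.Dix.InterSurf

variable {R : Type u} [CommRing R] [IsDomain R] [IsDiscreteValuationRing R]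
variable {X : Over (Spec (CommRingCat.of R))}

/-- An effective Cartier divisor supported on vertical prime divisors is a combination of them. -/
theorem exists_prod (hX : ArSurf.IsArithSurface R X) {r : ℕ} (Γ : Fin r → ArSurf.VertComp R X)
    (hΓc : ∀ i, BlowUp.IsEffCartierIdeal (Γ i).ι.ker) {D : X.left.IdealSheafData}
    (hD : BlowUp.IsEffCartierIdeal D)
    (hsupp : (D.support : Set X.left) ⊆ ⋃ i, Set.range ((Γ i).ι.base : (Γ i).curve.left → X.left)) :
    ∃ c : Fin r → ℕ, D = ∏ i, (Γ i).ι.ker ^ c i := by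
  have hp : IsProper X.hom := isProper_hom hX
  have hN : IsNoetherian X.left := LoccohB.AdStruct.isNoetherian_of_finiteType X.hom
  refine S1659.result X.left D hD r (fun i => (Γ i).ι.ker) hΓc
    (fun i => Models.H38.TrivGen.isIntegral_ker_subscheme (Γ i).ι) ?_
  intro x hx
  obtain ⟨i, y, hy⟩ := Set.mem_iUnion.1 (hsupp hx)
  refine Set.mem_iUnion.2 ⟨i, ?_⟩
  have := Scheme.Hom.support_ker (Γ i).ι
  rw [(Γ i).ι.isClosedEmbedding.isClosed_range.closure_eq] at this
  rw [this]
  exact ⟨y, hy⟩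

theorem pull_iso {Y Z W : Scheme.{u}} (f : Y ⟶ Z) (g : Z ⟶ W) (h : Y ⟶ W) (w : f ≫ g = h) (N : W.Modules) :
    Nonempty ((Scheme.Modules.pullback f).obj ((Scheme.Modules.pullback g).obj N) ≅
      (Scheme.Modules.pullback h).obj N) := by
  subst w
  exact ⟨(Scheme.Modules.pullbackComp f g).app N⟩

theorem pull_unit {Y Z : Scheme.{u}} (g : Y ⟶ Z) :
    Nonempty ((Scheme.Modules.pullback g).obj (Coh.structureModule Z) ≅ Coh.structureModule Y) := by
  have h := map_one (pull g)
  rw [one_def, pull_mk, mk_eq_one_iff] at h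
  exact h

/-- The property `P` for an arbitrary closed subscheme. -/
theorem triv_of_P {r : ℕ} {Γ : Fin r → ArSurf.VertComp R X} {D : X.left.IdealSheafData} (hP : P Γ D)
    {Z : Scheme.{u}} (z : Z ⟶ X.left) [IsClosedImmersion z] (hz : z.ker = D)
    (N : Z.Modules) (hN : PicF.IsInvertible N)
    (hdeg : ∀ (i : Fin r) (g : (Γ i).curve.left ⟶ Z), g ≫ z = (Γ i).ι →
      ArSurf.curveDeg (IsLocalRing.ResidueField R) (Γ i).curve.left ((Scheme.Modules.pullback g).obj N) = 0) :
    Nonempty (N ≅ Coh.structureModule Z) := by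
  obtain ⟨e, he⟩ := exists_iso_of_ker_eq z D.subschemeι (by rw [hz, Scheme.IdealSheafData.ker_subschemeι])
  have he' : e.inv ≫ z = D.subschemeι := by rw [← he, Iso.inv_hom_id_assoc]
  obtain ⟨-, ⟨a⟩⟩ := hP ((Scheme.Modules.pullback e.inv).obj N) (Fdesc.LocGen.isInvertible_pullback _ hN) (by
    intro i g hg
    obtain ⟨b⟩ := pull_iso g e.inv (g ≫ e.inv) rfl N
    rw [curveDeg_congr b]
    exact hdeg i (g ≫ e.inv) (by rw [Category.assoc, he', hg]))
  obtain ⟨b⟩ := pull_iso e.hom e.inv (𝟙 Z) e.hom_inv_id N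
  obtain ⟨c⟩ := pull_unit e.hom
  exact ⟨((Scheme.Modules.pullbackId Z).app N).symm ≪≫ b.symm ≪≫ (Scheme.Modules.pullback e.hom).mapIso a ≪≫ c⟩

/-- Negative definite configuration with `K·Γ_i = 0`. -/
theorem triv (hX : ArSurf.IsArithSurface R X)
    {r : ℕ} (Γ : Fin r → ArSurf.VertComp R X)
    (L : Fin r → X.left.Modules) (hL : ∀ j, ClSub.IsInverseOf (L j) (ClSub.idealMod (Γ j).ι.ker))
    (hneg : ∀ c : Fin r → ℤ, c ≠ 0 →
      (Finset.univ : Finset (Fin r × Fin r)).sum (fun p => c p.1 * c p.2 * ArSurf.inter R X (L p.2) (Γ p.1)) < 0)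
    (ω : X.left.Modules) (hω : Canon.IsCanonical X.hom ω) (hK : ∀ i, ArSurf.inter R X ω (Γ i) = 0)
    (Z : Scheme.{u}) (z : Z ⟶ X.left) [IsClosedImmersion z] (hz : BlowUp.IsEffCartierIdeal z.ker)
    (hr : Set.range z.base ⊆ (⋃ i, Set.range (Γ i).ι.base))
    (N : Z.Modules) (hN : PicF.IsInvertible N)
    (hdeg : ∀ (i : Fin r) (g : (Γ i).curve.left ⟶ Z), g ≫ z = (Γ i).ι →
      ArSurf.curveDeg (IsLocalRing.ResidueField R) (Γ i).curve.left ((Scheme.Modules.pullback g).obj N) = 0) :
    Nonempty (N ≅ Coh.structureModule Z) := by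
  obtain ⟨c, hc⟩ := exists_prod hX Γ (fun i => Dix.IdealModCartier.isEffCartierIdeal_of_isInverseOf (hL i)) hz (by
    rw [Scheme.Hom.support_ker, z.isClosedEmbedding.isClosed_range.closure_eq]
    exact hr)
  refine triv_of_P (main hX Γ L hL ω (fun i => AdjNum.adjunction R X hX (Γ i) (hL i) hω) c ?_) z hc N hN hdeg
  intro a' _ ha'
  have h := hneg (fun i => (a' i : ℤ)) (by
    intro h
    apply ha'
    funext i
    have := congrFun h i
    simpa using this)
  rw [Fintype.sum_prod_type] at h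
  refine lt_of_eq_of_lt (Finset.sum_congr rfl fun i _ => ?_) h
  rw [hK i, add_zero, Finset.mul_sum]
  exact Finset.sum_congr rfl fun j _ => by ring

end K482.TrivZ
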